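import Cfsg.Agent.H408.LemmaK

/-!
# Subgroups of `p`-power index in groups of rank one (helper969)

* `pairs_false` : a transitive group in which the stabilisers of two points `a`, `b` coincide, are commutative and are
  transitive on the remaining points does not exist, if there are at least `7` points or if the number of points is odd
  and at least `5`.
* `good_rank_one` : a group of rank one with commutative torus which is transitive on the root group minus the identity
  is `Good p`, unless it has `3`, `4` or `6` points. In particular `GL₂(q)` is `Good p` for `q = 4` and `q ≥ 7`.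
-/

set_option autoImplicit false

namespace Cfsg.Agent.H969.RankOne

open Subgroup MulAction
open Cfsg.Agent.H408.Core Cfsg.Agent.H408.LemmaK

section Pairs

variable {D Ω : Type*} [Group D] [MulAction D Ω]

theorem pairs_false [Finite Ω] [IsPretransitive D Ω] {a b : Ω} (hab : a ≠ b)
    (hst : ∀ d : D, d • a = a ↔ d • b = b)
    (hcomm : ∀ s t : D, s • a = a → t • a = a → ∀ x : Ω, s • t • x = t • s • x)
    (htr : ∀ x y : Ω, x ≠ a → x ≠ b → y ≠ a → y ≠ b → ∃ t : D, t • a = a ∧ t • x = y)
    (h5 : 5 ≤ Nat.card Ω) (hcard : 7 ≤ Nat.card Ω ∨ Odd (Nat.card Ω)) : False := by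
  classical
  have : Fintype Ω := Fintype.ofFinite Ω
  -- an element of `D_a` with a further fixed point is trivial
  have fix3 : ∀ d : D, ∀ x : Ω, x ≠ a → x ≠ b → d • a = a → d • x = x → ∀ y : Ω, d • y = y := by
    intro d x hxa hxb hda hdx y
    by_cases hya : y = a
    · rw [hya, hda]
    · by_cases hyb : y = b
      · rw [hyb, (hst d).1 hda]
      · obtain ⟨s, hs, hsx⟩ := htr x y hxa hxb hya hyb
        rw [← hsx, hcomm d s hda hs, hdx]
  have key3 : ∀ d : D, ∀ x y w : Ω, x ≠ y → x ≠ w → y ≠ w → d • x = x → d • y = y → d • w = w →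
      ∀ v : Ω, d • v = v := by
    intro d x y w hxy hxw hyw hx hy hw v
    obtain ⟨e, he⟩ := exists_smul_eq D a x
    have hconj : ∀ u : Ω, d • u = u → (e⁻¹ * d * e) • (e⁻¹ • u) = e⁻¹ • u := by
      intro u hu
      rw [← mul_smul, mul_assoc, mul_inv_cancel, mul_one, mul_smul, hu]
    have h1 : (e⁻¹ * d * e) • a = a := by
      have h2 := hconj x hx
      rwa [show e⁻¹ • x = a by rw [← he, inv_smul_smul]] at h2
    have hne : ∀ u : Ω, x ≠ u → e⁻¹ • u ≠ a := by
      intro u hu h2
      apply hu
      rw [← he, ← h2, smul_inv_smul]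
    have h2 : ∀ y' : Ω, (e⁻¹ * d * e) • y' = y' := by
      by_cases hyb : e⁻¹ • y = b
      · have hwb : e⁻¹ • w ≠ b := by
          intro h3
          apply hyw
          rw [← smul_inv_smul e y, ← smul_inv_smul e w, hyb, h3]
        exact fix3 _ _ (hne w hxw) hwb h1 (hconj w hw)
      · exact fix3 _ _ (hne y hxy) hyb h1 (hconj y hy)
    have h3 := h2 (e⁻¹ • v)
    rw [← mul_smul, mul_assoc, mul_inv_cancel, mul_one, mul_smul] at h3
    exact smul_left_cancel _ h3
  -- the partner
  choose g hg using fun x : Ω => exists_smul_eq D a x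
  let σ : Ω → Ω := fun x => g x • b
  have hσ : ∀ (d : D) (x : Ω), σ (d • x) = d • σ x := by
    intro d x
    have h1 : ((d * g x)⁻¹ * g (d • x)) • a = a := by
      rw [mul_smul, hg, inv_smul_eq_iff, mul_smul, hg]
    have h2 := (hst _).1 h1
    rw [mul_smul, inv_smul_eq_iff, mul_smul] at h2
    exact h2
  have hσa : σ a = b := (hst _).1 (hg a)
  have hσne : ∀ x, σ x ≠ x := by
    intro x h
    have h1 : g x • b = g x • a := by rw [hg]; exact h
    exact hab (smul_left_cancel _ h1).symm
  have hσb : σ b = a := by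
    by_contra hc
    have hcb : σ b ≠ b := hσne b
    have h1 : ∀ t : D, t • a = a → t • σ b = σ b := by
      intro t ht
      rw [← hσ, (hst t).1 ht]
    obtain ⟨y, hy⟩ : ∃ y : Ω, y ∉ ({a, b, σ b} : Finset Ω) := by
      by_contra hall
      push Not at hall
      have h2 : (Finset.univ : Finset Ω) ⊆ {a, b, σ b} := fun y _ => hall y
      have h3 := Finset.card_le_card h2
      rw [Finset.card_univ, ← Nat.card_eq_fintype_card] at h3
      have h4 : ({a, b, σ b} : Finset Ω).card ≤ 3 := Finset.card_le_three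
      omega
    simp only [Finset.mem_insert, Finset.mem_singleton, not_or] at hy
    obtain ⟨t, ht, hty⟩ := htr (σ b) y hc hcb hy.1 hy.2.1
    rw [h1 t ht] at hty
    exact hy.2.2 hty.symm
  have hσσ : ∀ x, σ (σ x) = x := by
    intro x
    have h1 : σ (σ (g x • a)) = g x • a := by
      rw [hσ (g x) a, hσa]
      exact (hσ (g x) b).trans (by rw [hσb])
    rwa [hg] at h1
  rcases hcard with h7 | hodd
  swap
  · -- parity
    have h1 : (∏ _x : Ω, (-1 : ℤ)) = 1 := by
      refine Finset.prod_involution (fun x _ => σ x) (fun x _ => by norm_num) (fun x _ _ => hσne x)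
        (fun x _ => Finset.mem_univ _) (fun x _ => hσσ x)
    rw [Finset.prod_const, Finset.card_univ, ← Nat.card_eq_fintype_card, Odd.neg_one_pow hodd] at h1
    norm_num at h1
  obtain ⟨P, hP⟩ : ∃ y : Ω, y ∉ ({a, b} : Finset Ω) := by
    by_contra hall
    push Not at hall
    have h2 : (Finset.univ : Finset Ω) ⊆ {a, b} := fun y _ => hall y
    have h3 := Finset.card_le_card h2
    rw [Finset.card_univ, ← Nat.card_eq_fintype_card] at h3
    have h4 : ({a, b} : Finset Ω).card ≤ 2 := Finset.card_le_two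
    omega
  simp only [Finset.mem_insert, Finset.mem_singleton, not_or] at hP
  have hσP : σ P ≠ a ∧ σ P ≠ b := by
    constructor
    · intro h
      have := hσσ P
      rw [h, hσa] at this
      exact hP.2 this.symm
    · intro h
      have := hσσ P
      rw [h, hσb] at this
      exact hP.1 this.symm
  obtain ⟨z, hza, hzP⟩ := htr P (σ P) hP.1 hP.2 hσP.1 hσP.2
  have hz : ∀ R, R ≠ a → R ≠ b → z • R = σ R := by
    intro R hRa hRb
    obtain ⟨s, hs, hsP⟩ := htr P R hP.1 hP.2 hRa hRb
    rw [← hsP, hcomm z s hza hs, hzP, hσ]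
  have hz' : ∀ R, R ≠ P → R ≠ σ P → (g P * z * (g P)⁻¹) • R = σ R := by
    intro R h1 h2
    have h3 : (g P)⁻¹ • R ≠ a := by
      intro h
      apply h1
      rw [← hg P, ← h, smul_inv_smul]
    have h4 : (g P)⁻¹ • R ≠ b := by
      intro h
      apply h2
      change R = g P • b
      rw [← h, smul_inv_smul]
    rw [mul_smul, mul_smul, hz _ h3 h4, ← hσ, smul_inv_smul]
  have hw : ∀ R, R ∉ ({a, b, P, σ P} : Finset Ω) → (z⁻¹ * (g P * z * (g P)⁻¹)) • R = R := by
    intro R hR
    simp only [Finset.mem_insert, Finset.mem_singleton, not_or] at hR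
    rw [mul_smul, hz' R hR.2.2.1 hR.2.2.2, inv_smul_eq_iff, hz R hR.1 hR.2.1]
  have hc3 : 2 < (({a, b, P, σ P} : Finset Ω)ᶜ).card := by
    rw [Finset.card_compl, ← Nat.card_eq_fintype_card]
    have h4 : ({a, b, P, σ P} : Finset Ω).card ≤ 4 := Finset.card_le_four
    omega
  obtain ⟨x, y, w, hx, hy, hw', hxy, hxw, hyw⟩ := Finset.two_lt_card_iff.1 hc3
  rw [Finset.mem_compl] at hx hy hw'
  have h1 := key3 _ x y w hxy hxw hyw (hw x hx) (hw y hy) (hw w hw') P
  have h2 : (g P * z * (g P)⁻¹) • P = P := by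
    have h3 : (g P)⁻¹ • P = a := by rw [inv_smul_eq_iff, hg]
    rw [mul_smul, mul_smul, h3, hza, hg]
  rw [mul_smul, h2, inv_smul_eq_iff, hzP] at h1
  exact hσne P h1.symm

end Pairs

section Good

variable {L Ω : Type*} [Group L] [MulAction L Ω]

/-- groups of rank one with an abelian torus transitive on the root group minus the identity are `Good p` -/
theorem good_rank_one [Finite L] [Finite Ω] [IsPretransitive L Ω] {p : ℕ} (hp : p.Prime) {a b : Ω} (hab : a ≠ b)
    (U : Subgroup L) (hU : IsPGroup p U) (hUa : ∀ u ∈ U, u • a = a)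
    (hUn : ∀ g : L, g • a = a → ∀ u ∈ U, g * u * g⁻¹ ∈ U)
    (hUtr : ∀ x : Ω, x ≠ a → ∃ u ∈ U, u • b = x) (hUfree : ∀ u ∈ U, u • b = b → u = 1)
    (hT : ¬ p ∣ Nat.card (stabilizer L a ⊓ stabilizer L b : Subgroup L))
    (hcomm : ∀ s t : L, s • a = a → s • b = b → t • a = a → t • b = b → ∀ x : Ω, s • t • x = t • s • x)
    (htr : ∀ x y : Ω, x ≠ a → x ≠ b → y ≠ a → y ≠ b → ∃ t : L, t • a = a ∧ t • b = b ∧ t • x = y)
    (h5 : 5 ≤ Nat.card Ω) (hcard : 7 ≤ Nat.card Ω ∨ Odd (Nat.card Ω)) : Good p L := by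
  classical
  have : Fact p.Prime := ⟨hp⟩
  set B : Subgroup L := stabilizer L a with hB
  set T : Subgroup L := stabilizer L a ⊓ stabilizer L b with hTd
  have hUB : U ≤ B := fun u hu => hUa u hu
  have hTB : T ≤ B := inf_le_left
  have hBUT : ∀ g ∈ B, ∃ u ∈ U, ∃ t ∈ T, g = u * t := by
    intro g hg
    have hga : g • a = a := hg
    have h1 : g • b ≠ a := by
      intro h
      apply hab
      exact (smul_left_cancel g (h.trans hga.symm)).symm
    obtain ⟨u, hu, hub⟩ := hUtr _ h1
    refine ⟨u, hu, u⁻¹ * g, ⟨?_, ?_⟩, by group⟩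
    · change (u⁻¹ * g) • a = a
      rw [mul_smul, hga, inv_smul_eq_iff, hUa u hu]
    · change (u⁻¹ * g) • b = b
      rw [mul_smul, ← hub, inv_smul_smul]
  -- orders
  have hcU : Nat.card U + 1 = Nat.card Ω := by
    have h1 : Nat.card U = Nat.card {x : Ω // x ≠ a} := by
      refine Nat.card_congr (Equiv.ofBijective (fun u : U => (⟨u.1 • b, ?_⟩ : {x : Ω // x ≠ a})) ⟨?_, ?_⟩)
      · intro h
        apply hab
        exact (smul_left_cancel u.1 (h.trans (hUa u.1 u.2).symm)).symm
      · intro u v huv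
        have h2 : u.1 • b = v.1 • b := congrArg Subtype.val huv
        have h3 := hUfree (v.1⁻¹ * u.1) (mul_mem (inv_mem v.2) u.2) (by rw [mul_smul, h2, inv_smul_smul])
        exact Subtype.ext (inv_mul_eq_one.1 h3).symm
      · rintro ⟨x, hx⟩
        obtain ⟨u, hu, hux⟩ := hUtr x hx
        exact ⟨⟨u, hu⟩, Subtype.ext hux⟩
    have : Fintype Ω := Fintype.ofFinite Ω
    rw [h1, Nat.card_eq_fintype_card, Nat.card_eq_fintype_card, Fintype.card_subtype_compl,
      Fintype.card_subtype_eq]
    have := Fintype.card_pos (α := Ω) (h := ⟨a⟩)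
    omega
  have hcB : Nat.card B = Nat.card U * Nat.card T := by
    rw [← Nat.card_prod]
    refine (Nat.card_congr (Equiv.ofBijective (fun x : U × T => (⟨x.1.1 * x.2.1, mul_mem (hUB x.1.2)
      (hTB x.2.2)⟩ : B)) ⟨?_, ?_⟩)).symm
    · rintro ⟨u, t⟩ ⟨v, s⟩ h
      have h1 : u.1 * t.1 = v.1 * s.1 := congrArg Subtype.val h
      have h2 : v.1⁻¹ * u.1 = s.1 * t.1⁻¹ := by
        rw [inv_mul_eq_iff_eq_mul, ← mul_assoc, ← h1, mul_inv_cancel_right]
      have h3 : v.1⁻¹ * u.1 = 1 := by
        apply hUfree _ (mul_mem (inv_mem v.2) u.2)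
        rw [h2]
        exact (mul_mem s.2 (inv_mem t.2)).2
      have h4 : u = v := Subtype.ext (inv_mul_eq_one.1 h3).symm
      rw [h3] at h2
      have h5 : s = t := Subtype.ext (by rw [eq_comm, mul_inv_eq_one] at h2; exact h2)
      rw [h4, h5]
    · rintro ⟨g, hg⟩
      obtain ⟨u, hu, t, ht, rfl⟩ := hBUT g hg
      exact ⟨⟨⟨u, hu⟩, ⟨t, ht⟩⟩, rfl⟩
  have hBi : B.index = Nat.card Ω := index_stabilizer_of_transitive L a
  have hBbi : (stabilizer L b).index = Nat.card Ω := index_stabilizer_of_transitive L b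
  have hUi : U.index = Nat.card T * Nat.card Ω := by
    have h1 := U.card_mul_index
    have h2 := B.card_mul_index
    rw [hcB, hBi] at h2
    rw [← h2, mul_assoc] at h1
    exact Nat.eq_of_mul_eq_mul_left Nat.card_pos h1
  have hpΩ : ¬ p ∣ Nat.card Ω := by
    intro h1
    obtain ⟨j, hj⟩ := hU.exists_card_eq
    have h2 : j ≠ 0 := by
      rintro rfl
      rw [hj, pow_zero] at hcU
      omega
    have h3 : p ∣ Nat.card U := by
      rw [hj]
      exact dvd_pow_self p h2
    have h4 : p ∣ 1 := (Nat.dvd_add_right h3).1 (by rw [hcU]; exact h1)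
    exact hp.one_lt.ne' (Nat.dvd_one.1 h4)
  have hpU : ¬ p ∣ U.index := by
    rw [hUi]
    intro h
    rcases (Nat.Prime.dvd_mul hp).1 h with h | h
    · exact hT h
    · exact hpΩ h
  have hMQ : B ≤ normalizer (U : Set L) := by
    intro g hg
    rw [mem_normalizer_iff]
    intro x
    constructor
    · intro hx
      exact hUn g hg x hx
    · intro hx
      have := hUn g⁻¹ (inv_mem hg) _ hx
      rwa [show g⁻¹ * (g * x * g⁻¹) * g⁻¹⁻¹ = x by group] at this
  -- the case when the torus lies in the subgroup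
  have main : ∀ (D : Subgroup L) (k : ℕ), D.index = p ^ k → T ≤ D → D = ⊤ := by
    intro D k hD hTD
    have hcopB : D.index.Coprime B.index := by
      rw [hD, hBi]
      exact Nat.Coprime.pow_left _ ((Nat.Prime.coprime_iff_not_dvd hp).2 hpΩ)
    have hcopBb : D.index.Coprime (stabilizer L b).index := by
      rw [hD, hBbi]
      exact Nat.Coprime.pow_left _ ((Nat.Prime.coprime_iff_not_dvd hp).2 hpΩ)
    have hcopU : D.index.Coprime U.index := by
      rw [hD]
      exact Nat.Coprime.pow_left _ ((Nat.Prime.coprime_iff_not_dvd hp).2 hpU)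
    by_cases hDU : ∃ u ∈ U, u ∈ D ∧ u ≠ 1
    · obtain ⟨u, hu, huD, hu1⟩ := hDU
      have hUD : U ≤ D := by
        intro v hv
        by_cases hv1 : v = 1
        · rw [hv1]; exact one_mem _
        have h1 : ∀ w ∈ U, w ≠ 1 → w • b ≠ a ∧ w • b ≠ b := by
          intro w hw hw1
          refine ⟨fun h => ?_, fun h => hw1 (hUfree w hw h)⟩
          apply hab
          exact (smul_left_cancel w (h.trans (hUa w hw).symm)).symm
        obtain ⟨t, hta, htb, htx⟩ := htr (u • b) (v • b) (h1 u hu hu1).1 (h1 u hu hu1).2 (h1 v hv hv1).1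
          (h1 v hv hv1).2
        have h2 : t * u * t⁻¹ ∈ U := hUn t hta u hu
        have h3 : (v⁻¹ * (t * u * t⁻¹)) • b = b := by
          have h4 : t⁻¹ • b = b := by rw [inv_smul_eq_iff, htb]
          rw [mul_smul, mul_smul, mul_smul, h4, htx, inv_smul_smul]
        have h4 := hUfree _ (mul_mem (inv_mem hv) h2) h3
        rw [inv_mul_eq_one.1 h4]
        have htD : t ∈ D := hTD ⟨hta, htb⟩
        exact mul_mem (mul_mem htD huD) (inv_mem htD)
      rw [← index_eq_one]
      exact Nat.eq_one_of_dvd_coprimes hcopU dvd_rfl (index_dvd_of_le hUD)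
    · exfalso
      push Not at hDU
      have hinf : D ⊓ U = ⊥ := by
        rw [eq_bot_iff]
        intro x hx
        exact hDU x hx.2 hx.1
      have hDi : D.index = Nat.card U := by
        rw [← relIndex_eq hcopU, ← inf_relIndex_right D U, hinf, relIndex_bot_left]
      have hDB : ∀ c : Ω, D.index.Coprime (stabilizer L c).index → T ≤ stabilizer L c → (stabilizer L c).index =
          Nat.card Ω → D ⊓ stabilizer L c = T := by
        intro c hc hTc hci
        symm
        apply Subgroup.eq_of_le_of_card_ge (le_inf hTD hTc)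
        have h1 : Nat.card (stabilizer L c) = Nat.card U * Nat.card T := by
          have h2 := (stabilizer L c).card_mul_index
          have h3 := B.card_mul_index
          rw [hci, ← h3, hBi, hcB] at h2
          exact Nat.eq_of_mul_eq_mul_right (by omega) h2
        have h2 := card_mul_index (D.subgroupOf (stabilizer L c))
        have h3 : (D.subgroupOf (stabilizer L c)).index = Nat.card U := by
          rw [← hDi]
          exact relIndex_eq hc
        rw [h3, h1, ← inf_subgroupOf_right, Nat.card_congr (subgroupOfEquivOfLe inf_le_right).toEquiv,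
          mul_comm] at h2
        exact (Nat.eq_of_mul_eq_mul_left (Nat.card_pos (α := U)) h2).le
      have hDa := hDB a hcopB hTB hBi
      have hDb := hDB b hcopBb inf_le_right hBbi
      have htrans : IsPretransitive D Ω := by
        refine ⟨fun x y => ?_⟩
        have h1 : ∀ w : Ω, ∃ d : D, d • a = w := by
          intro w
          obtain ⟨g, hg⟩ := exists_smul_eq L a w
          obtain ⟨d, hd, m, hm, hgm⟩ := exists_mul hcopB g
          refine ⟨⟨d, hd⟩, ?_⟩
          change d • a = w
          rw [← hg, hgm, mul_smul, show m • a = a from hm]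
        obtain ⟨d, hd⟩ := h1 x
        obtain ⟨e, he⟩ := h1 y
        exact ⟨e * d⁻¹, by rw [← hd, mul_smul, inv_smul_smul, he]⟩
      have hst : ∀ d : D, d • a = a ↔ d • b = b := by
        intro d
        constructor
        · intro h
          have h1 : d.1 ∈ D ⊓ stabilizer L a := ⟨d.2, h⟩
          rw [hDa] at h1
          exact h1.2
        · intro h
          have h1 : d.1 ∈ D ⊓ stabilizer L b := ⟨d.2, h⟩
          rw [hDb] at h1
          exact h1.1
      refine pairs_false (D := D) hab hst ?_ ?_ h5 hcard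
      · intro s t hs ht x
        exact hcomm s.1 t.1 hs ((hst s).1 hs) ht ((hst t).1 ht) x
      · intro x y hxa hxb hya hyb
        obtain ⟨t, hta, htb, htx⟩ := htr x y hxa hxb hya hyb
        exact ⟨⟨t, hTD ⟨hta, htb⟩⟩, hta, htx⟩
  intro H k hH
  obtain ⟨g, -, hg⟩ := exists_conj_le_H (M := B) (Q := U) (Y := T) hp hH (by rw [hBi]; exact hpΩ) hUB hMQ hU hTB hT (by
    intro m hm y hy
    obtain ⟨u, hu, t, ht, h⟩ := hBUT (m * y * m⁻¹) (mul_mem (mul_mem hm (hTB hy)) (inv_mem hm))
    rw [h]
    exact mul_mem (mem_sup_left hu) (mem_sup_right ht))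
  have h1 := main (H.comap (MulAut.conj g).toMonoidHom) k (by
    rw [← hH]
    exact index_comap_of_surjective _ (MulAut.conj g).surjective) (fun t ht => hg t ht)
  rw [eq_top_iff]
  intro x _
  have h2 : g⁻¹ * x * g ∈ H.comap (MulAut.conj g).toMonoidHom := by rw [h1]; trivial
  have h3 : g * (g⁻¹ * x * g) * g⁻¹ ∈ H := h2
  rwa [show g * (g⁻¹ * x * g) * g⁻¹ = x by group] at h3

end Good

end Cfsg.Agent.H969.RankOne
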