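import Mathlib
import Cfsg.Agent.H969.SpPi
import Cfsg.Agent.H969.SpBase

/-!
# `PSp_4(q)`, `q ≥ 7` odd (helper969)
-/

set_option autoImplicit false
open Cfsg
open scoped Matrix
open Cfsg.Agent.ClassicalGeometry.SympBasic Cfsg.Agent.ClassicalGeometry.SympSiegel
open Cfsg.Agent.H408.Core Cfsg.Agent.H408.LemmaK Cfsg.Agent.H408.RgdK Cfsg.Agent.H62.SpEmb Cfsg.Agent.H969.SpStep
open Cfsg.Agent.H969.GoodLin Cfsg.Agent.H969.SpPi Cfsg.Agent.H969.SpBase

namespace Cfsg.Agent.H969.SpFour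

variable {F : Type*} [Field F]

local notation "V" => (Fin 2 ⊕ Fin 2 → F)
local notation "G" => Matrix.symplecticGroup (Fin 2) F
local notation "f" => sympForm 2 F

/-- the second hyperbolic pair -/
def x₁ (F : Type*) [Field F] : Fin 2 ⊕ Fin 2 → F := ext (e F 0)
/-- the second vector of the second hyperbolic pair -/
def y₁ (F : Type*) [Field F] : Fin 2 ⊕ Fin 2 → F := ext (v₀ F 0)

theorem fex : f (e F 1) (x₁ F) = 0 := form_e_ext _
theorem fey : f (e F 1) (y₁ F) = 0 := form_e_ext _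
theorem fvx : f (v₀ F 1) (x₁ F) = 0 := form_v₀_ext _
theorem fvy : f (v₀ F 1) (y₁ F) = 0 := form_v₀_ext _
theorem fev : f (e F 1) (v₀ F 1) = 1 := form_e_v₀
theorem fxy : f (x₁ F) (y₁ F) = 1 := by
  unfold x₁ y₁
  rw [form_ext]
  exact form_e_v₀
theorem fxe : f (x₁ F) (e F 1) = 0 := by rw [sympForm_swap, fex, neg_zero]
theorem fye : f (y₁ F) (e F 1) = 0 := by rw [sympForm_swap, fey, neg_zero]
theorem fxv : f (x₁ F) (v₀ F 1) = 0 := by rw [sympForm_swap, fvx, neg_zero]
theorem fyv : f (y₁ F) (v₀ F 1) = 0 := by rw [sympForm_swap, fvy, neg_zero]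
theorem fve : f (v₀ F 1) (e F 1) = -1 := by rw [sympForm_swap, fev]
theorem fyx : f (y₁ F) (x₁ F) = -1 := by rw [sympForm_swap, fxy]

theorem dec (v : V) : ∃ α β γ δ : F, v = α • e F 1 + β • v₀ F 1 + γ • x₁ F + δ • y₁ F := by
  have h1 := decomp v
  have h2 := decomp (n := 0) (res v)
  have h3 : (ext (res (res v)) : Fin (0 + 1) ⊕ Fin (0 + 1) → F) = 0 := by
    rw [show res (res v) = 0 from Subsingleton.elim _ _, ext_zero]
  rw [h3, add_assoc] at h2
  have h4 := h2.trans (zero_add _)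
  refine ⟨v (.inr 0), v (.inl 0), (res v) (.inr 0), (res v) (.inl 0), ?_⟩
  have h5 : (ext (res v) : Fin (1 + 1) ⊕ Fin (1 + 1) → F) = (res v) (.inr 0) • x₁ F + (res v) (.inl 0) • y₁ F := by
    unfold x₁ y₁
    rw [← Cfsg.Agent.H62.SpEmb.ext_smul, ← Cfsg.Agent.H62.SpEmb.ext_smul, ← ext_add]
    exact congrArg ext h4
  rw [h5] at h1
  refine h1.trans ?_
  abel

theorem coef {α β γ δ : F} {v : V} (h : v = α • e F 1 + β • v₀ F 1 + γ • x₁ F + δ • y₁ F) :
    f v (v₀ F 1) = α ∧ f (e F 1) v = β ∧ f v (y₁ F) = γ ∧ f (x₁ F) v = δ := by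
  subst h
  refine ⟨?_, ?_, ?_, ?_⟩ <;>
  simp [sympForm_add_left, sympForm_add_right, sympForm_smul_left, sympForm_smul_right, fex, fey, fvy, fev,
    fxy, fxe, fxv, fyv]

theorem ext4 {g h : G} (h1 : g • e F 1 = h • e F 1) (h2 : g • v₀ F 1 = h • v₀ F 1) (h3 : g • x₁ F = h • x₁ F)
    (h4 : g • y₁ F = h • y₁ F) : g = h := by
  apply Cfsg.Agent.ClassicalGeometry.SympSiegel.ext_smul
  intro v
  obtain ⟨α, β, γ, δ, rfl⟩ := dec v
  simp only [smul_add', smul_smul', h1, h2, h3, h4]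

/-- the torus -/
def tt (a b : Fˣ) : G := dd 1 a * emb (dd 0 b)

theorem dd_ext (a : Fˣ) (x : Fin 1 ⊕ Fin 1 → F) : dd 1 a • (ext x : V) = ext x := by
  rw [dd_smul]
  simp [ext]

theorem tt_e (a b : Fˣ) : tt a b • e F 1 = (a : F) • e F 1 := by
  rw [tt, mul_smul, emb_smul_e, dd_e]

theorem tt_v (a b : Fˣ) : tt a b • v₀ F 1 = ((a⁻¹ : Fˣ) : F) • v₀ F 1 := by
  rw [tt, mul_smul, emb_smul_v₀, dd_v₀]

theorem tt_x (a b : Fˣ) : tt a b • x₁ F = (b : F) • x₁ F := by
  rw [tt, mul_smul]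
  unfold x₁
  rw [emb_smul_ext, dd_e, dd_ext, Cfsg.Agent.H62.SpEmb.ext_smul]

theorem tt_y (a b : Fˣ) : tt a b • y₁ F = ((b⁻¹ : Fˣ) : F) • y₁ F := by
  rw [tt, mul_smul]
  unfold y₁
  rw [emb_smul_ext, dd_v₀, dd_ext, Cfsg.Agent.H62.SpEmb.ext_smul]

theorem tt_mul (a b c d : Fˣ) : (tt a b * tt c d : G) = tt (a * c) (b * d) := by
  apply ext4
  · rw [mul_smul, tt_e, smul_smul', tt_e, smul_smul, tt_e, Units.val_mul, mul_comm]
  · rw [mul_smul, tt_v, smul_smul', tt_v, smul_smul, tt_v, mul_inv, Units.val_mul, mul_comm]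
  · rw [mul_smul, tt_x, smul_smul', tt_x, smul_smul, tt_x, Units.val_mul, mul_comm]
  · rw [mul_smul, tt_y, smul_smul', tt_y, smul_smul, tt_y, mul_inv, Units.val_mul, mul_comm]

theorem tt_one : (tt 1 1 : G) = 1 := by
  apply ext4 <;> simp [tt_e, tt_v, tt_x, tt_y]

/-- the scalars of the Levi factor `GL_2` -/
def sc (F : Type*) [Field F] : Fˣ →* Matrix.symplecticGroup (Fin 2) F where
  toFun a := tt a a
  map_one' := tt_one
  map_mul' a b := (tt_mul a a b b).symm

theorem sc_apply (a : Fˣ) : sc F a = tt a a := rfl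

/-- the isotropic plane -/
def E (F : Type*) [Field F] : Submodule F (Fin 2 ⊕ Fin 2 → F) := Submodule.span F {e F 1, x₁ F}

theorem mem_E {v : V} : v ∈ E F ↔ ∃ a b : F, v = a • e F 1 + b • x₁ F := by
  unfold E
  rw [Submodule.mem_span_pair]
  constructor
  · rintro ⟨a, b, h⟩
    exact ⟨a, b, h.symm⟩
  · rintro ⟨a, b, h⟩
    exact ⟨a, b, h.symm⟩

theorem e_mem : e F 1 ∈ E F := mem_E.2 ⟨1, 0, by simp⟩
theorem x_mem : x₁ F ∈ E F := mem_E.2 ⟨0, 1, by simp⟩

/-- the isotropic plane is its own orthogonal -/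
theorem mem_E_iff {v : V} : v ∈ E F ↔ f (e F 1) v = 0 ∧ f (x₁ F) v = 0 := by
  constructor
  · intro h
    obtain ⟨a, b, rfl⟩ := mem_E.1 h
    simp [sympForm_add_right, sympForm_smul_right, fex, fxe]
  · rintro ⟨h1, h2⟩
    obtain ⟨α, β, γ, δ, h⟩ := dec v
    obtain ⟨-, h3, -, h4⟩ := coef h
    rw [h1] at h3
    rw [h2] at h4
    rw [mem_E]
    refine ⟨α, γ, ?_⟩
    rw [h, ← h3, ← h4, zero_smul, zero_smul, add_zero, add_zero]

/-- the stabiliser of the plane -/
def M (F : Type*) [Field F] : Subgroup (Matrix.symplecticGroup (Fin 2) F) where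
  carrier := {g | ∀ v, v ∈ E F ↔ g • v ∈ E F}
  mul_mem' := by
    intro g h hg hh v
    rw [mul_smul, ← hg, ← hh]
  one_mem' := fun v => by rw [one_smul]
  inv_mem' := by
    intro g hg v
    rw [hg (g⁻¹ • v), smul_inv_smul]

/-- its unipotent radical -/
def QE (F : Type*) [Field F] : Subgroup (Matrix.symplecticGroup (Fin 2) F) where
  carrier := {g | ∀ v ∈ E F, g • v = v}
  mul_mem' := by
    intro g h hg hh v hv
    rw [mul_smul, hh v hv, hg v hv]
  one_mem' := fun v _ => one_smul _ v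
  inv_mem' := by
    intro g hg v hv
    rw [inv_smul_eq_iff, hg v hv]

theorem QE_le : QE F ≤ M F := by
  intro g hg v
  constructor
  · intro hv
    rw [hg v hv]
    exact hv
  · intro hv
    have h1 := hg _ hv
    have h2 : g • v = v := by
      have h3 := congrArg (fun w => g⁻¹ • w) h1
      simpa using h3
    rwa [h2] at hv

theorem M_le_normalizer : M F ≤ Subgroup.normalizer (QE F : Set G) := by
  have key : ∀ g ∈ M F, ∀ q ∈ QE F, g * q * g⁻¹ ∈ QE F := by
    intro g hg q hq v hv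
    have h1 : g⁻¹ • v ∈ E F := (inv_mem hg v).1 hv
    rw [mul_smul, mul_smul, hq _ h1, smul_inv_smul]
  intro g hg
  rw [Subgroup.mem_normalizer_iff]
  intro q
  refine ⟨key g hg q, fun h => ?_⟩
  have h1 := key g⁻¹ (inv_mem hg) _ h
  rwa [show g⁻¹ * (g * q * g⁻¹) * g⁻¹⁻¹ = q by group] at h1

theorem isPGroup_QE {p : ℕ} [CharP F p] : IsPGroup p (QE F) := by
  intro g
  refine ⟨1, Subtype.ext ?_⟩
  have h1 : ∀ v : V, g.1 • v - v ∈ E F := by
    intro v
    have h2 : ∀ u ∈ E F, f u (g.1 • v - v) = 0 := by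
      intro u hu
      have h3 := form_smul g.1 u v
      rw [g.2 u hu] at h3
      rw [sympForm_sub_right, h3, sub_self]
    exact mem_E_iff.2 ⟨h2 _ e_mem, h2 _ x_mem⟩
  have h2 : ∀ (k : ℕ) (v : V), g.1 ^ k • v = v + (k : F) • (g.1 • v - v) := by
    intro k
    induction k with
    | zero => intro v; simp
    | succ k ih =>
      intro v
      rw [pow_succ', mul_smul, ih, smul_add', smul_smul', g.2 _ (h1 v), Nat.cast_succ, add_smul, one_smul]
      abel
  rw [pow_one]
  apply Cfsg.Agent.ClassicalGeometry.SympSiegel.ext_smul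
  intro v
  change g.1 ^ p • v = (1 : G) • v
  rw [h2, CharP.cast_eq_zero, zero_smul, add_zero, one_smul]

theorem M_index [Finite F] {p : ℕ} (hp : p.Prime) [CharP F p] : ¬ p ∣ (M F).index := by
  have h1 : ¬ p ∣ (MulAction.stabilizer (Matrix.symplecticGroup (Fin 1) F) (e F 0)).index :=
    vstab_index hp le_rfl e_ne
  have h2 := index_lift (n := 1) hp h1
  intro h
  apply h2
  refine h.trans (Subgroup.index_dvd_of_le ?_)
  have key : ∀ g ∈ lift (n := 1) (MulAction.stabilizer (Matrix.symplecticGroup (Fin 1) F) (e F 0)), ∀ v ∈ E F,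
      g • v ∈ E F := by
    intro g hg v hv
    obtain ⟨hge, hgp⟩ := mem_lift.1 hg
    have h3 := MulAction.mem_stabilizer_iff.1 hgp
    rw [pr_smul] at h3
    obtain ⟨c, hc⟩ := smul_ext_eq hge (e F 0)
    have h4 : g • x₁ F = x₁ F + c • e F 1 := by
      unfold x₁
      rw [hc]
      congr 2
    obtain ⟨a, b, rfl⟩ := mem_E.1 hv
    rw [smul_add', smul_smul', smul_smul', hge, h4]
    exact (E F).add_mem ((E F).smul_mem _ e_mem) ((E F).smul_mem _ ((E F).add_mem x_mem ((E F).smul_mem _ e_mem)))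
  intro g hg v
  refine ⟨key g hg v, fun hv => ?_⟩
  have h3 := key g⁻¹ (inv_mem hg) _ hv
  rwa [inv_smul_smul] at h3

/-! ### The Levi factor -/

/-- the Levi factor `GL_2` -/
def L (F : Type*) [Field F] : Subgroup (Matrix.symplecticGroup (Fin 2) F) :=
  Subgroup.centralizer ((sc F).range : Set (Matrix.symplecticGroup (Fin 2) F))

theorem mem_L {g : G} : g ∈ L F ↔ ∀ a : Fˣ, g * tt a a = tt a a * g := by
  unfold L
  rw [Subgroup.mem_centralizer_iff]
  constructor
  · intro h a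
    exact (h _ ⟨a, rfl⟩).symm
  · rintro h _ ⟨a, rfl⟩
    exact (h a).symm

section Fin

variable [Finite F] (h7 : 7 ≤ Nat.card F)

include h7 in
theorem exists_ne : ∃ a : Fˣ, (a : F) * a ≠ 1 := by
  classical
  have := Fintype.ofFinite F
  by_contra hcon
  push Not at hcon
  have h2 : (Finset.univ : Finset F) ⊆ {0, 1, -1} := by
    intro x _
    by_cases hx : x = 0
    · rw [hx]; simp
    · have := hcon (Units.mk0 x hx)
      rw [Units.val_mk0] at this
      rcases mul_self_eq_one_iff.1 this with h | h <;> rw [h] <;> simp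
  have h3 := Finset.card_le_card h2
  rw [Finset.card_univ, ← Nat.card_eq_fintype_card] at h3
  have h4 : ({0, 1, -1} : Finset F).card ≤ 3 := Finset.card_le_three
  omega

include h7 in
/-- the Levi factor preserves the plane and the opposite plane -/
theorem L_act {g : G} (hg : g ∈ L F) :
    (∀ v ∈ E F, g • v ∈ E F) ∧ ∃ a b c d : F, g • v₀ F 1 = a • v₀ F 1 + b • y₁ F ∧
      g • y₁ F = c • v₀ F 1 + d • y₁ F := by
  obtain ⟨a, ha⟩ := exists_ne h7
  have hga := mem_L.1 hg a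
  have hav : ∀ v : V, tt a a • (g • v) = g • (tt a a • v) := by
    intro v
    rw [← mul_smul, ← hga, mul_smul]
  have ha0 : (a : F) ≠ 0 := a.ne_zero
  have hai : ((a⁻¹ : Fˣ) : F) = (a : F)⁻¹ := Units.val_inv_eq_inv_val a
  have hne : (a : F) ≠ (a : F)⁻¹ := by
    intro h
    apply ha
    nth_rw 2 [h]
    exact mul_inv_cancel₀ ha0
  constructor
  · have h1 : ∀ v : V, tt a a • v = (a : F) • v → v ∈ E F := by
      intro v hv
      obtain ⟨α, β, γ, δ, h⟩ := dec v
      have h2 : tt a a • v = ((a : F) * α) • e F 1 + ((a : F)⁻¹ * β) • v₀ F 1 + ((a : F) * γ) • x₁ F +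
          ((a : F)⁻¹ * δ) • y₁ F := by
        rw [h]
        simp only [smul_add', smul_smul', tt_e, tt_v, tt_x, tt_y, smul_smul, hai]
        simp only [mul_comm]
      have h3 : tt a a • v = ((a : F) * α) • e F 1 + ((a : F) * β) • v₀ F 1 + ((a : F) * γ) • x₁ F +
          ((a : F) * δ) • y₁ F := by
        rw [hv, h]
        simp only [smul_add, smul_smul]
      have h4 := (coef h2).2.1.symm.trans (coef h3).2.1
      have h5 := (coef h2).2.2.2.symm.trans (coef h3).2.2.2
      have hβ : β = 0 := by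
        by_contra hb
        exact hne (mul_right_cancel₀ hb h4).symm
      have hδ : δ = 0 := by
        by_contra hb
        exact hne (mul_right_cancel₀ hb h5).symm
      rw [mem_E]
      exact ⟨α, γ, by rw [h, hβ, hδ, zero_smul, zero_smul, add_zero, add_zero]⟩
    intro v hv
    apply h1
    rw [hav]
    obtain ⟨α, β, rfl⟩ := mem_E.1 hv
    rw [← smul_smul']
    congr 1
    rw [smul_add', smul_smul', smul_smul', tt_e, tt_x, smul_add, smul_smul, smul_smul, smul_smul, smul_smul,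
      mul_comm, mul_comm (a : F) β]
  · have h1 : ∀ v : V, tt a a • v = (a : F)⁻¹ • v → ∃ c d : F, v = c • v₀ F 1 + d • y₁ F := by
      intro v hv
      obtain ⟨α, β, γ, δ, h⟩ := dec v
      have h2 : tt a a • v = ((a : F) * α) • e F 1 + ((a : F)⁻¹ * β) • v₀ F 1 + ((a : F) * γ) • x₁ F +
          ((a : F)⁻¹ * δ) • y₁ F := by
        rw [h]
        simp only [smul_add', smul_smul', tt_e, tt_v, tt_x, tt_y, smul_smul, hai]
        simp only [mul_comm]
      have h3 : tt a a • v = ((a : F)⁻¹ * α) • e F 1 + ((a : F)⁻¹ * β) • v₀ F 1 + ((a : F)⁻¹ * γ) • x₁ F +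
          ((a : F)⁻¹ * δ) • y₁ F := by
        rw [hv, h]
        simp only [smul_add, smul_smul]
      have h4 := (coef h2).1.symm.trans (coef h3).1
      have h5 := (coef h2).2.2.1.symm.trans (coef h3).2.2.1
      have hα : α = 0 := by
        by_contra hb
        exact hne (mul_right_cancel₀ hb h4)
      have hγ : γ = 0 := by
        by_contra hb
        exact hne (mul_right_cancel₀ hb h5)
      exact ⟨β, δ, by rw [h, hα, hγ, zero_smul, zero_smul, zero_add, add_zero]⟩
    obtain ⟨c, d, hcd⟩ := h1 (g • v₀ F 1) (by rw [hav, tt_v, smul_smul', hai])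
    obtain ⟨c', d', hcd'⟩ := h1 (g • y₁ F) (by rw [hav, tt_y, smul_smul', hai])
    exact ⟨c, d, c', d', hcd, hcd'⟩

include h7 in
/-- an element of the Levi factor is determined by the action on the plane -/
theorem L_inj {g : G} (hg : g ∈ L F) (h1 : g • e F 1 = e F 1) (h2 : g • x₁ F = x₁ F) : g = 1 := by
  obtain ⟨-, a, b, c, d, h3, h4⟩ := L_act h7 hg
  have e1 := form_smul g (e F 1) (v₀ F 1)
  rw [h1, h3, fev, sympForm_add_right, sympForm_smul_right, sympForm_smul_right, fev, fey] at e1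
  have e2 := form_smul g (x₁ F) (v₀ F 1)
  rw [h2, h3, fxv, sympForm_add_right, sympForm_smul_right, sympForm_smul_right, fxv, fxy] at e2
  have e3 := form_smul g (e F 1) (y₁ F)
  rw [h1, h4, fey, sympForm_add_right, sympForm_smul_right, sympForm_smul_right, fev, fey] at e3
  have e4 := form_smul g (x₁ F) (y₁ F)
  rw [h2, h4, fxy, sympForm_add_right, sympForm_smul_right, sympForm_smul_right, fxv, fxy] at e4
  have ha : a = 1 := by linear_combination e1
  have hb : b = 0 := by linear_combination e2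
  have hc : c = 0 := by linear_combination e3
  have hd : d = 1 := by linear_combination e4
  apply ext4
  · rw [h1, one_smul]
  · rw [h3, ha, hb, one_smul, one_smul, zero_smul, add_zero]
  · rw [h2, one_smul]
  · rw [h4, hc, hd, one_smul, one_smul, zero_smul, zero_add]

end Fin

/-- the short root elements -/
noncomputable def uu (c : F) : G := siegel (e F 1) (-c • y₁ F) 0

theorem few (c : F) : f (e F 1) (-c • y₁ F) = 0 := by rw [sympForm_smul_right, fey, mul_zero]

theorem uu_mem (c : F) : (uu c : G) ∈ L F := by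
  rw [mem_L]
  intro a
  have h1 := conj_siegel (tt a a) (few c) 0
  rw [tt_e, smul_smul', tt_y] at h1
  have h2 : f (e F 1) (-c • ((a⁻¹ : Fˣ) : F) • y₁ F) = 0 := by
    rw [sympForm_smul_right, sympForm_smul_right, fey, mul_zero, mul_zero]
  rw [siegel_smul_vec h2, mul_zero] at h1
  have h3 : (a : F) • -c • ((a⁻¹ : Fˣ) : F) • y₁ F = -c • y₁ F := by
    rw [smul_smul, smul_smul, Units.val_inv_eq_inv_val]
    congr 1
    have := a.ne_zero
    field_simp
  rw [h3] at h1
  have h4 : tt a a * uu c * (tt a a)⁻¹ = (uu c : G) := h1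
  rw [mul_inv_eq_iff_eq_mul] at h4
  exact h4.symm

theorem uu_e (c : F) : uu c • e F 1 = e F 1 := smul_siegel_self (few c) 0

theorem uu_x (c : F) : uu c • x₁ F = x₁ F + c • e F 1 := by
  rw [uu, siegel_smul (few c), fex, zero_smul, add_zero, sympForm_smul_left, fyx]
  congr 2
  ring

/-- the swap -/
def swLin (F : Type*) [Field F] : (Fin 2 ⊕ Fin 2 → F) →ₗ[F] (Fin 2 ⊕ Fin 2 → F) :=
  LinearMap.funLeft F F (Sum.map (Equiv.swap (0 : Fin 2) 1) (Equiv.swap (0 : Fin 2) 1))

theorem form_swLin (u v : V) : f (swLin F u) (swLin F v) = f u v := by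
  rw [sympForm_eq_sum, sympForm_eq_sum, Fin.sum_univ_two, Fin.sum_univ_two]
  simp [swLin, LinearMap.funLeft_apply]
  ring

/-- the swap -/
def sw (F : Type*) [Field F] : Matrix.symplecticGroup (Fin 2) F := ofIso (swLin F) form_swLin

theorem sw_smul (v : V) : sw F • v = swLin F v := ofIso_smul _ _ _

theorem ext_one (u : Fin 1 ⊕ Fin 1 → F) (i : Fin 2) : (ext u : V) (.inl i) = (if i = 1 then u (.inl 0) else 0) ∧
    (ext u : V) (.inr i) = (if i = 1 then u (.inr 0) else 0) := by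
  fin_cases i
  · exact ⟨rfl, rfl⟩
  · exact ⟨rfl, rfl⟩

theorem sw_e : sw F • e F 1 = x₁ F := by
  rw [sw_smul]
  funext i
  rcases i with i | i <;> fin_cases i <;>
    simp [swLin, LinearMap.funLeft_apply, e, x₁, (ext_one _ _).1, (ext_one _ _).2, Pi.single_apply]

theorem sw_x : sw F • x₁ F = e F 1 := by
  rw [sw_smul]
  funext i
  rcases i with i | i <;> fin_cases i <;>
    simp [swLin, LinearMap.funLeft_apply, e, x₁, (ext_one _ _).1, (ext_one _ _).2, Pi.single_apply]

theorem sw_v : sw F • v₀ F 1 = y₁ F := by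
  rw [sw_smul]
  funext i
  rcases i with i | i <;> fin_cases i <;>
    simp [swLin, LinearMap.funLeft_apply, v₀, y₁, (ext_one _ _).1, (ext_one _ _).2, Pi.single_apply]

theorem sw_y : sw F • y₁ F = v₀ F 1 := by
  rw [sw_smul]
  funext i
  rcases i with i | i <;> fin_cases i <;>
    simp [swLin, LinearMap.funLeft_apply, v₀, y₁, (ext_one _ _).1, (ext_one _ _).2, Pi.single_apply]

theorem sw_mem : sw F ∈ L F := by
  rw [mem_L]
  intro a
  apply ext4
  · rw [mul_smul, mul_smul, tt_e, smul_smul', sw_e, tt_x]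
  · rw [mul_smul, mul_smul, tt_v, smul_smul', sw_v, tt_y]
  · rw [mul_smul, mul_smul, tt_x, smul_smul', sw_x, tt_e]
  · rw [mul_smul, mul_smul, tt_y, smul_smul', sw_y, tt_v]

theorem tt_mem (a b : Fˣ) : (tt a b : G) ∈ L F := by
  rw [mem_L]
  intro c
  rw [tt_mul, tt_mul, mul_comm a, mul_comm b]

/-! ### The Levi factor is good -/

section Good

variable [Finite F] (h7 : 7 ≤ Nat.card F)

/-- the action of the Levi factor on the plane -/
def rho (F : Type*) [Field F] [Finite F] (h7 : 7 ≤ Nat.card F) : L F →* (E F ≃ₗ[F] E F) where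
  toFun g :=
    { toFun := fun v => ⟨g.1 • v.1, (L_act h7 g.2).1 v.1 v.2⟩
      map_add' := fun u v => Subtype.ext (smul_add' g.1 u.1 v.1)
      map_smul' := fun c v => Subtype.ext (smul_smul' g.1 c v.1)
      invFun := fun v => ⟨(g⁻¹ : L F).1 • v.1, (L_act h7 (g⁻¹ : L F).2).1 v.1 v.2⟩
      left_inv := fun v => Subtype.ext (inv_smul_smul g.1 v.1)
      right_inv := fun v => Subtype.ext (smul_inv_smul g.1 v.1) }
  map_one' := by
    ext v
    change ((1 : Matrix.symplecticGroup (Fin 2) F) • v.1) _ = _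
    rw [one_smul]
    rfl
  map_mul' g h := by
    ext v
    change ((g.1 * h.1) • v.1) _ = (g.1 • (h.1 • v.1)) _
    rw [mul_smul]

theorem rho_apply (g : L F) (v : E F) : ((rho F h7 g) v).1 = g.1 • v.1 := rfl

theorem rho_injective : Function.Injective (rho F h7) := by
  rw [injective_iff_map_eq_one]
  intro g hg
  have h1 : ∀ v : E F, g.1 • v.1 = v.1 := by
    intro v
    rw [← rho_apply h7, hg]
    rfl
  exact Subtype.ext (L_inj h7 g.2 (h1 ⟨_, e_mem⟩) (h1 ⟨_, x_mem⟩))

include h7 in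
theorem good_L {p : ℕ} (hp : p.Prime) [CharP F p] : Good p (L F) := by
  have key : Good p (rho F h7).range := by
    refine good_lin2 (b₀ := (⟨e F 1, e_mem⟩ : E F)) (b₁ := ⟨x₁ F, x_mem⟩) ?_ ?_ hp _ ?_ ?_ ?_ (by omega)
      (Or.inl (by omega))
    · rintro ⟨v, hv⟩
      obtain ⟨a, b, h⟩ := mem_E.1 hv
      exact ⟨a, b, Subtype.ext h⟩
    · intro a b h
      have h1 : a • e F 1 + b • x₁ F = 0 := congrArg Subtype.val h
      have h2 : (0 : V) = a • e F 1 + (0 : F) • v₀ F 1 + b • x₁ F + (0 : F) • y₁ F := by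
        rw [zero_smul, zero_smul, add_zero, add_zero, h1]
      obtain ⟨h3, -, h4, -⟩ := coef h2
      rw [sympForm_zero_left] at h3 h4
      exact ⟨h3.symm, h4.symm⟩
    · intro c
      exact ⟨_, ⟨⟨uu c, uu_mem c⟩, rfl⟩, Subtype.ext (uu_e c), Subtype.ext (uu_x c)⟩
    · exact ⟨_, ⟨⟨sw F, sw_mem⟩, rfl⟩, 1, Subtype.ext (by
        rw [one_smul]
        exact sw_e)⟩
    · intro c hc
      refine ⟨_, ⟨⟨tt 1 (Units.mk0 c hc), tt_mem _ _⟩, rfl⟩, 1, one_ne_zero, Subtype.ext ?_, Subtype.ext ?_⟩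
      · change tt 1 (Units.mk0 c hc) • e F 1 = (1 : F) • e F 1
        rw [tt_e]
        rfl
      · change tt 1 (Units.mk0 c hc) • x₁ F = (c * 1) • x₁ F
        rw [tt_x, mul_one]
        rfl
  exact key.of_equiv (MonoidHom.ofInjective (rho_injective h7)).symm

theorem not_dvd_units {p : ℕ} (hp : p.Prime) [CharP F p] : ¬ p ∣ Nat.card Fˣ := by
  classical
  intro h
  have := Fintype.ofFinite F
  have h1 : Nat.card Fˣ + 1 = Nat.card F := by
    rw [Nat.card_eq_fintype_card, Nat.card_eq_fintype_card, Fintype.card_units]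
    have := Fintype.card_pos (α := F)
    omega
  have h2 : p ∣ Nat.card F := by
    rw [Nat.card_eq_fintype_card]
    exact (CharP.cast_eq_zero_iff F p _).1 (FiniteField.cast_card_eq_zero F)
  rw [← h1] at h2
  have h3 := (Nat.dvd_add_right h).1 h2
  exact hp.one_lt.ne' (Nat.dvd_one.1 h3)

end Good

/-- the Weyl element of the second hyperbolic pair -/
theorem exists_w1 : ∃ w : G, w • e F 1 = e F 1 ∧ w • v₀ F 1 = v₀ F 1 ∧ w • x₁ F = y₁ F ∧ w • y₁ F = -x₁ F := by
  obtain ⟨A, -, h1, h2⟩ := exists_transvGroup_hyperbolic (m := 1) (F := F) (u := e F 0) (v := v₀ F 0)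
    (u' := v₀ F 0) (v' := -e F 0) form_e_v₀ (by
      rw [sympForm_neg_right, sympForm_swap, form_e_v₀, neg_neg])
  refine ⟨emb A, emb_smul_e A, emb_smul_v₀ A, ?_, ?_⟩
  · unfold x₁ y₁
    rw [emb_smul_ext]
    exact congrArg ext h1
  · unfold x₁ y₁
    rw [emb_smul_ext, ← ext_neg]
    exact congrArg ext h2

/-- **`PSp_4(q)`, `q ≥ 7` odd** -/
theorem good_psp_two [Finite F] {p : ℕ} (hp : p.Prime) [CharP F p] (h2 : p ≠ 2) (h7 : 7 ≤ Nat.card F) :
    Good p (PSp 2 F) := by
  classical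
  have hfF := Fintype.ofFinite F
  have : IsSimpleGroup (PSp 2 F) := Cfsg.Agent.S0270.result 2 le_rfl (fun _ => by
    rw [← Nat.card_eq_fintype_card]; omega)
  have : Fact p.Prime := ⟨hp⟩
  have h20 : (2 : F) ≠ 0 := by
    intro h
    have h3 : ((2 : ℕ) : F) = 0 := by exact_mod_cast h
    rw [CharP.cast_eq_zero_iff F p] at h3
    exact h2 ((Nat.prime_dvd_prime_iff_eq hp Nat.prime_two).1 h3)
  have hYM : (sc F).range ≤ M F := by
    have key : ∀ (a : Fˣ), ∀ v ∈ E F, tt a a • v ∈ E F := fun a v hv => (L_act h7 (tt_mem a a)).1 v hv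
    rintro _ ⟨a, rfl⟩ v
    refine ⟨key a v, fun hv => ?_⟩
    have h3 := (L_act h7 (inv_mem (tt_mem (F := F) a a))).1 _ hv
    rwa [sc_apply, inv_smul_smul] at h3
  have hYp : ¬ p ∣ Nat.card (sc F).range := fun h =>
    not_dvd_units (F := F) hp (h.trans (Subgroup.card_range_dvd (sc F)))
  have hMY : ∀ m ∈ M F, ∀ y ∈ (sc F).range, m * y * m⁻¹ ∈ QE F ⊔ (sc F).range := by
    rintro m hm _ ⟨a, rfl⟩
    have hsc : ∀ (b : Fˣ), ∀ v ∈ E F, tt b b • v = (b : F) • v := by
      intro b v hv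
      obtain ⟨α, β, rfl⟩ := mem_E.1 hv
      rw [smul_add', smul_smul', smul_smul', tt_e, tt_x, smul_add, smul_smul, smul_smul, smul_smul, smul_smul,
        mul_comm, mul_comm (b : F) β]
    have h3 : m * sc F a * m⁻¹ * (sc F a)⁻¹ ∈ QE F := by
      intro v hv
      have h4 : (sc F a)⁻¹ = tt a⁻¹ a⁻¹ := by rw [← map_inv, sc_apply]
      have h5 : m⁻¹ • v ∈ E F := (inv_mem hm v).1 hv
      rw [h4, mul_smul, hsc _ v hv, mul_smul, mul_smul, smul_smul', sc_apply, smul_smul', hsc _ _ h5, smul_smul,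
        smul_smul', smul_inv_smul, Units.inv_mul, one_smul]
    have h4 : m * sc F a * m⁻¹ = (m * sc F a * m⁻¹ * (sc F a)⁻¹) * sc F a := by group
    rw [h4]
    exact mul_mem (Subgroup.mem_sup_left h3) (Subgroup.mem_sup_right ⟨a, rfl⟩)
  refine good_of_exists hp (QuotientGroup.mk' (Subgroup.center (Matrix.symplecticGroup (Fin 2) F)))
    (QuotientGroup.mk'_surjective _) ?_
  intro H k hH
  obtain ⟨g, -, hg⟩ := exists_conj_of_centralizer (M := M F) (Q := QE F) (Y := (sc F).range) (K := L F) hp hH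
    (M_index hp) QE_le M_le_normalizer isPGroup_QE hYM hYp hMY le_rfl Subgroup.le_normalizer (good_L h7 hp)
  let H2 : Subgroup G := H.comap (MulAut.conj g).toMonoidHom
  have hH2 : H2.index = p ^ k := by
    rw [← hH]
    exact Subgroup.index_comap_of_surjective _ (MulAut.conj g).surjective
  have hL2 : L F ≤ H2 := fun x hx => hg x hx
  obtain ⟨w, hwe, hwv, hwx, hwy⟩ := exists_w1 (F := F)
  let H3 : Subgroup G := H2.comap (MulAut.conj w).toMonoidHom
  have hH3 : H3.index = p ^ k := by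
    rw [← hH2]
    exact Subgroup.index_comap_of_surjective _ (MulAut.conj w).surjective
  have hwix : w⁻¹ • x₁ F = -y₁ F := by
    rw [inv_smul_eq_iff, smul_neg', hwy, neg_neg]
  have hwiy : w⁻¹ • y₁ F = x₁ F := by
    rw [inv_smul_eq_iff, hwx]
  have hwie : w⁻¹ • e F 1 = e F 1 := by rw [inv_smul_eq_iff, hwe]
  have hwiv : w⁻¹ • v₀ F 1 = v₀ F 1 := by rw [inv_smul_eq_iff, hwv]
  have hY3 : (sc F).range ≤ H3 := by
    rintro _ ⟨a, rfl⟩
    change w * tt a a * w⁻¹ ∈ H2
    have h3 : w * tt a a * w⁻¹ = tt a a⁻¹ := by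
      apply ext4
      · rw [mul_smul, mul_smul, hwie, tt_e, smul_smul', hwe, tt_e]
      · rw [mul_smul, mul_smul, hwiv, tt_v, smul_smul', hwv, tt_v]
      · rw [mul_smul, mul_smul, hwix, smul_neg', tt_y, smul_neg', smul_smul', hwy, smul_neg, neg_neg, tt_x]
      · rw [mul_smul, mul_smul, hwiy, tt_x, smul_smul', hwx, tt_y, inv_inv]
    rw [h3]
    exact hL2 (tt_mem _ _)
  have hL3 : L F ≤ H3 := le_of_centralizer hp hH3 (M_index hp) QE_le M_le_normalizer isPGroup_QE hYM hYp hMY hY3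
    le_rfl Subgroup.le_normalizer (good_L h7 hp)
  have hA : siegel (e F 1) (-(1 : F) • y₁ F) 0 ∈ H2 := hL2 (uu_mem 1)
  have hB : siegel (e F 1) (x₁ F) 0 ∈ H2 := by
    have h3 : w * uu 1 * w⁻¹ ∈ H2 := hL3 (uu_mem 1)
    have h4 := conj_siegel w (few (F := F) 1) 0
    rw [hwe, smul_smul', hwy] at h4
    have h5 : -(1 : F) • -x₁ F = x₁ F := by simp
    rw [h5] at h4
    rw [← h4]
    exact h3
  have hz : transv (e F 1) (-2 : F) ∈ H2 := by
    have h3 := mul_mem (mul_mem hA hB) (inv_mem (mul_mem hB hA))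
    rw [siegel_mul (few 1) fex, siegel_mul fex (few 1), siegel_inv (by
      rw [sympForm_add_right, few, fex, add_zero])] at h3
    rw [siegel_mul (by rw [sympForm_add_right, few, fex, add_zero]) (by
      rw [sympForm_neg_right, sympForm_add_right, few, fex, add_zero, neg_zero])] at h3
    rw [add_comm (x₁ F), add_neg_cancel, siegel_zero_eq_transv] at h3
    have h4 : -(0 + 0 + f (-(1 : F) • y₁ F) (x₁ F) + -(0 + 0 + f (x₁ F) (-(1 : F) • y₁ F)) +
        f (-(1 : F) • y₁ F + x₁ F) (-(-(1 : F) • y₁ F + x₁ F))) = -2 := by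
      rw [sympForm_neg_right, sympForm_self, sympForm_smul_left, sympForm_smul_right, fyx, fxy]
      ring
    rw [h4] at h3
    exact h3
  refine ⟨g, transv (e F 1) (-2 : F), hz, not_dvd_transv hp (by omega) e_ne _, ?_⟩
  intro h3
  exact transv_not_center e_ne (neg_ne_zero.2 h20) ((QuotientGroup.eq_one_iff _).1 h3)

end Cfsg.Agent.H969.SpFour
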