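import Mathlib
import Cfsg.Agent.H969.SpFour

/-!
# `PSp_4(3)`: the subgroups of index a power of `3` (helper969)

* `transv_of_Q` : a subgroup of `p`-power index (`p` odd) meeting `Q e` nontrivially contains a transvection;
* `not_hall` : `Sp_4(3)` has no subgroup of order prime to `3` and index a power of `3`;
* `psp_four_three` : a proper subgroup of `PSp_4(3)` of index `3 ^ k` has `k = 3`.
-/

set_option autoImplicit false
open Cfsg
open scoped Matrix
open Cfsg.Agent.ClassicalGeometry.SympBasic Cfsg.Agent.ClassicalGeometry.SympSiegel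
open Cfsg.Agent.H408.Core Cfsg.Agent.H408.LemmaK Cfsg.Agent.H408.RgdK Cfsg.Agent.H62.SpEmb Cfsg.Agent.H969.SpStep
open Cfsg.Agent.H969.GoodLin Cfsg.Agent.H969.SpPi Cfsg.Agent.H969.SpBase Cfsg.Agent.H969.SpFour

namespace Cfsg.Agent.H969.SpThree

section General

variable {F : Type*} [Field F] {n : ℕ}

local notation "V₁" => (Fin (n + 1) ⊕ Fin (n + 1) → F)
local notation "V₀" => (Fin n ⊕ Fin n → F)
local notation "G₁" => Matrix.symplecticGroup (Fin (n + 1)) F
local notation "G₀" => Matrix.symplecticGroup (Fin n) F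
local notation "f₁" => sympForm (n + 1) F
local notation "f₀" => sympForm n F

theorem siegel_comm {a b : V₁} (ha : f₁ (e F n) a = 0) (hb : f₁ (e F n) b = 0) (c d : F) :
    siegel (e F n) a c * siegel (e F n) b d * (siegel (e F n) b d * siegel (e F n) a c)⁻¹ =
      transv (e F n) (-(2 * f₁ a b)) := by
  have hab : f₁ (e F n) (a + b) = 0 := by rw [sympForm_add_right, ha, hb, add_zero]
  have hab' : f₁ (e F n) (-(a + b)) = 0 := by rw [sympForm_neg_right, hab, neg_zero]
  rw [siegel_mul ha hb, siegel_mul hb ha, add_comm b a, siegel_inv hab, siegel_mul hab hab', add_neg_cancel,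
    siegel_zero_eq_transv]
  congr 2
  rw [sympForm_neg_right, sympForm_self, sympForm_swap b a]
  ring

/-- a subgroup of `p`-power index, `p` odd, meeting `Q e` nontrivially, contains a transvection -/
theorem transv_of_Q [Finite F] {p k : ℕ} (hp : p.Prime) [CharP F p] (h2 : (2 : F) ≠ 0) {H : Subgroup G₁}
    (hH : H.index = p ^ k) {x : G₁} (hx : x ∈ Q (e F n)) (hxH : x ∈ H) (hx1 : x ≠ 1) :
    ∃ c : F, c ≠ 0 ∧ transv (e F n) c ∈ H := by
  obtain ⟨w, c, hw, rfl⟩ := hx
  obtain ⟨w₀, a, rfl⟩ : ∃ (w₀ : V₀) (a : F), w = ext w₀ + a • e F n := by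
    have h1 := decomp w
    rw [form_e] at hw
    rw [hw, zero_smul, add_zero] at h1
    exact ⟨_, _, h1⟩
  rw [siegel_add_smul (form_e_ext w₀)] at hxH hx1
  by_cases hw0 : w₀ = 0
  · subst hw0
    rw [ext_zero, siegel_zero_eq_transv] at hxH hx1
    refine ⟨_, ?_, hxH⟩
    intro h
    rw [h, transv_zero] at hx1
    exact hx1 rfl
  · obtain ⟨w₁, hw₁⟩ := exists_form_eq_one hw0
    have hw10 : w₁ ≠ 0 := by
      rintro rfl
      rw [sympForm_zero_right] at hw₁
      exact zero_ne_one hw₁
    obtain ⟨A, hA⟩ := exists_smul_eq hw0 hw10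
    have hn : 1 ≤ n := by
      rcases Nat.eq_zero_or_pos n with h | h
      · subst h
        exact absurd (Subsingleton.elim w₀ 0) hw0
      · exact h
    have hcop : H.index.Coprime (lift (MulAction.stabilizer G₀ w₀)).index := by
      rw [hH]
      exact Nat.Coprime.pow_left _ ((Nat.Prime.coprime_iff_not_dvd hp).2
        (index_lift hp (vstab_index hp hn hw0)))
    obtain ⟨h, hh, m, hm, hgm⟩ := exists_mul hcop (emb A : G₁)
    obtain ⟨hme, hmp⟩ := mem_lift.1 hm
    have h3 := MulAction.mem_stabilizer_iff.1 hmp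
    rw [pr_smul] at h3
    obtain ⟨b, hb⟩ := smul_ext_eq hme w₀
    have h3' : res (m • (ext w₀ : V₁)) = w₀ := h3
    rw [h3'] at hb
    have hhe : h • e F n = e F n := by
      have h4 : h = emb A * m⁻¹ := by rw [hgm, mul_inv_cancel_right]
      rw [h4, mul_smul]
      have h5 : m⁻¹ • e F n = e F n := by rw [inv_smul_eq_iff, hme]
      rw [h5, emb_smul_e]
    have hhw : h • (ext w₀ : V₁) = ext w₁ + (-b) • e F n := by
      have h4 : emb A • (ext w₀ : V₁) = h • (m • (ext w₀ : V₁)) := by rw [← mul_smul, ← hgm]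
      rw [hb, smul_add', smul_smul', hhe, emb_smul_ext, hA] at h4
      rw [h4, neg_smul, add_neg_cancel_right]
    have h6 := conj_siegel h (form_e_ext w₀) (c + 2 * a)
    rw [hhe, hhw] at h6
    have h7 : siegel (e F n) (ext w₁ + (-b) • e F n) (c + 2 * a) ∈ H := by
      rw [← h6]
      exact mul_mem (mul_mem hh hxH) (inv_mem hh)
    have h8 := mul_mem (mul_mem hxH h7) (inv_mem (mul_mem h7 hxH))
    have h9 : f₁ (e F n) (ext w₁ + (-b) • e F n) = 0 := by
      rw [sympForm_add_right, form_e_ext, sympForm_smul_right, sympForm_self, mul_zero, add_zero]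
    rw [siegel_comm (form_e_ext w₀) h9] at h8
    refine ⟨_, ?_, h8⟩
    have h10 : f₁ (ext w₀) (ext w₁ + (-b) • e F n) = 1 := by
      rw [sympForm_add_right, form_ext, hw₁, sympForm_smul_right, sympForm_swap, form_e_ext]
      ring
    rw [h10, mul_one]
    exact neg_ne_zero.2 h2

/-- the order of `Q e` -/
theorem card_Q_ge [Finite F] : Nat.card V₀ * Nat.card F ≤ Nat.card (Q (e F n)) := by
  rw [← Nat.card_prod]
  refine Nat.card_le_card_of_injective
    (fun x : V₀ × F => (⟨sg x.1 x.2, siegel_mem_Q (form_e_ext x.1) x.2⟩ : Q (e F n))) ?_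
  rintro ⟨x, c⟩ ⟨y, d⟩ h
  have h1 : (sg x c : G₁) = sg y d := congrArg Subtype.val h
  have h2 : (sg x c : G₁) * (sg y d)⁻¹ * emb 1 = 1 := by rw [h1, mul_inv_cancel, map_one, mul_one]
  rw [sg_inv, sg_mul] at h2
  obtain ⟨h3, h4, -⟩ := sg_emb_eq_one h2
  have h5 : x = y := by
    rw [← sub_eq_add_neg] at h3
    exact sub_eq_zero.1 h3
  subst h5
  rw [sympForm_neg_right, sympForm_self] at h4
  have h6 : c = d := by linear_combination h4
  rw [h6]

end General

section Three

variable {F : Type*} [Field F]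

local notation "V" => (Fin 2 ⊕ Fin 2 → F)
local notation "G" => Matrix.symplecticGroup (Fin 2) F
local notation "f" => sympForm 2 F

/-- the involution fixing the plane of `a`, `b` -/
def IsR (a b : V) (s : G) : Prop := ∀ v : V, s • v = (2 : F) • (f v b • a - f v a • b) - v

/-- the element of order four acting on the plane of `a`, `b` -/
def IsW (a b : V) (s : G) : Prop := ∀ v : V, s • v = v + f v b • (b - a) + f v a • (a + b)

theorem IsR.conj {a b : V} {s : G} (h : IsR a b s) (g : G) : IsR (g • a) (g • b) (g * s * g⁻¹) := by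
  intro v
  rw [mul_smul, mul_smul, h, smul_sub', smul_smul', smul_sub', smul_smul', smul_smul', smul_inv_smul,
    form_smul_left, form_smul_left, inv_inv]

theorem IsW.conj {a b : V} {s : G} (h : IsW a b s) (g : G) : IsW (g • a) (g • b) (g * s * g⁻¹) := by
  intro v
  rw [mul_smul, mul_smul, h, smul_add', smul_add', smul_smul', smul_sub', smul_smul', smul_add', smul_inv_smul,
    form_smul_left, form_smul_left, inv_inv]

theorem IsR.unique {a b : V} {s s' : G} (h : IsR a b s) (h' : IsR a b s') : s = s' := by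
  apply Cfsg.Agent.ClassicalGeometry.SympSiegel.ext_smul
  intro v
  rw [h, h']

theorem IsR.swap {a b : V} {s : G} (h : IsR a b s) : IsR b (-a) s := by
  intro v
  rw [h, sympForm_neg_right]
  module

theorem IsR.add {a b : V} {s : G} (h : IsR a b s) (c : F) : IsR a (b + c • a) s := by
  intro v
  rw [h, sympForm_add_right, sympForm_smul_right]
  module

/-- two involutions with a common fixed vector generate a `3`-group modulo ... -/
theorem IsR.eq_of_common [Finite F] {p : ℕ} (hp : p.Prime) [CharP F p] {H : Subgroup G} (hH : ¬ p ∣ Nat.card H)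
    {y b b' : V}
    (hy : y ≠ 0) (hb : f y b = 1) (hb' : f y b' = 1) {s s' : G} (h : IsR y b s) (h' : IsR y b' s') (hs : s ∈ H)
    (hs' : s' ∈ H) : s = s' := by
  have hsq : s' * s' = 1 := by
    apply Cfsg.Agent.ClassicalGeometry.SympSiegel.ext_smul
    intro v
    rw [mul_smul, one_smul, h', h']
    have h3 : f b' y = -1 := by rw [sympForm_swap, hb']
    simp only [sympForm_sub_left, sympForm_smul_left, sympForm_self, hb', h3]
    module
  have hact : ∀ (c : V) (t : G), IsR y c t → ∀ v, f y v = 0 → t • v = (2 * f v c) • y - v := by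
    intro c t ht v hv
    rw [ht, sympForm_swap v y, hv]
    module
  have hfix : ∀ (c : V) (t : G), f y c = 1 → IsR y c t → t • y = y := by
    intro c t hc ht
    rw [ht, hc, sympForm_self]
    module
  have hQ : s * s' ∈ Q y := by
    rw [mem_Q_iff hy]
    refine ⟨by rw [mul_smul, hfix _ _ hb' h', hfix _ _ hb h], fun v hv => ?_⟩
    refine ⟨2 * f v b' - 2 * f v b, ?_⟩
    rw [mul_smul, hact _ _ h' v hv, smul_sub', smul_smul', hfix _ _ hb h, hact _ _ h v hv]
    module
  have h3 : (s * s') ^ p = 1 := pow_char_eq_one_of_mem_Q hQ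
  have h4 : s * s' = 1 := by
    have h5 : orderOf (⟨s * s', mul_mem hs hs'⟩ : H) ∣ p := by
      apply orderOf_dvd_of_pow_eq_one
      exact Subtype.ext h3
    have h6 : orderOf (⟨s * s', mul_mem hs hs'⟩ : H) ∣ Nat.card H := orderOf_dvd_natCard _
    rcases (Nat.dvd_prime hp).1 h5 with h7 | h7
    · rw [orderOf_eq_one_iff] at h7
      exact congrArg Subtype.val h7
    · rw [h7] at h6
      exact absurd h6 hH
  calc s = s * (s' * s') := by rw [hsq, mul_one]
    _ = s' := by rw [← mul_assoc, h4, one_mul]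

/-- linear combinations of the basis -/
def lc (a b c d : F) : V := a • e F 1 + b • v₀ F 1 + c • x₁ F + d • y₁ F

theorem lc_congr {a b c d a' b' c' d' : F} (h1 : a = a') (h2 : b = b') (h3 : c = c') (h4 : d = d') :
    (lc a b c d : V) = lc a' b' c' d' := by rw [h1, h2, h3, h4]

/-- the element of order six -/
theorem order_six (h3 : (3 : F) = 0) {w γ : G} (hwx : w • x₁ F = y₁ F) (hwy : w • y₁ F = -x₁ F)
    (hwe : w • e F 1 = e F 1) (hwv : w • v₀ F 1 = v₀ F 1) (hγ : IsW (e F 1 + x₁ F) (-v₀ F 1 - y₁ F) γ) :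
    ((w * γ) * (w * γ)) ^ 3 = 1 ∧ (w * γ) * (w * γ) ≠ 1 := by
  have hwl : ∀ a b c d : F, w • (lc a b c d : V) = lc a b (-d) c := by
    intro a b c d
    unfold lc
    rw [smul_add', smul_add', smul_add', smul_smul', smul_smul', smul_smul', smul_smul', hwx, hwy, hwe, hwv]
    module
  have hγe : γ • e F 1 = lc 2 1 1 1 := by
    rw [hγ]
    unfold lc
    simp only [sympForm_add_right, sympForm_sub_right, sympForm_neg_right, sympForm_self, fev, fex, fey]
    module
  have hγv : γ • v₀ F 1 = lc (-1) 2 (-1) 1 := by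
    rw [hγ]
    unfold lc
    simp only [sympForm_add_right, sympForm_sub_right, sympForm_neg_right, sympForm_self, fve, fvx, fvy]
    module
  have hγx : γ • x₁ F = lc 1 1 2 1 := by
    rw [hγ]
    unfold lc
    simp only [sympForm_add_right, sympForm_sub_right, sympForm_neg_right, sympForm_self, fxe, fxv, fxy]
    module
  have hγy : γ • y₁ F = lc (-1) 1 (-1) 2 := by
    rw [hγ]
    unfold lc
    simp only [sympForm_add_right, sympForm_sub_right, sympForm_neg_right, sympForm_self, fye, fyv, fyx]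
    module
  have hγl : ∀ a b c d : F, γ • (lc a b c d : V) = lc (2 * a - b + c - d) (a + 2 * b + c + d) (a - b + 2 * c - d)
      (a + b + c + 2 * d) := by
    intro a b c d
    have h1 : γ • (lc a b c d : V) = a • lc 2 1 1 1 + b • lc (-1) 2 (-1) 1 + c • lc 1 1 2 1 + d • lc (-1) 1 (-1) 2 := by
      rw [← hγe, ← hγv, ← hγx, ← hγy, ← smul_smul', ← smul_smul', ← smul_smul', ← smul_smul', ← smul_add',
        ← smul_add', ← smul_add']
      rfl
    rw [h1]
    unfold lc
    module
  have hu : ∀ a b c d : F, (w * γ) • (lc a b c d : V) = lc (-a - b + c - d) (a - b + c + d) (-a - b - c + d)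
      (a - b - c - d) := by
    intro a b c d
    rw [mul_smul, hγl, hwl]
    refine lc_congr ?_ ?_ ?_ ?_
    · linear_combination a * h3
    · linear_combination b * h3
    · linear_combination (-d) * h3
    · linear_combination c * h3
  have hu2 : ∀ a b c d : F, ((w * γ) * (w * γ)) • (lc a b c d : V) = lc (a - b + c - d) (a + b + c + d)
      (-a - b + c + d) (a - b - c + d) := by
    intro a b c d
    rw [mul_smul (w * γ), hu, hu]
    refine lc_congr ?_ ?_ ?_ ?_
    · linear_combination (-a + b - c + d) * h3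
    · linear_combination (-a - b - c - d) * h3
    · linear_combination (a + b - c - d) * h3
    · linear_combination (-a + b + c - d) * h3
  have hu4 : ∀ a b c d : F, ((w * γ) * (w * γ)) • (((w * γ) * (w * γ)) • (lc a b c d : V)) =
      lc (a + b - c + d) (-a + b - c - d) (a + b + c - d) (-a + b + c + d) := by
    intro a b c d
    rw [hu2, hu2]
    refine lc_congr ?_ ?_ ?_ ?_
    · linear_combination (-a - b + c - d) * h3
    · linear_combination (a - b + c + d) * h3
    · linear_combination (-a - b - c + d) * h3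
    · linear_combination (a - b - c - d) * h3
  have hu6 : ∀ a b c d : F, ((w * γ) * (w * γ)) • (((w * γ) * (w * γ)) • (((w * γ) * (w * γ)) • (lc a b c d : V))) =
      lc a b c d := by
    intro a b c d
    rw [hu2 a b c d, hu4]
    refine lc_congr ?_ ?_ ?_ ?_
    · linear_combination a * h3
    · linear_combination b * h3
    · linear_combination c * h3
    · linear_combination d * h3
  constructor
  · apply Cfsg.Agent.ClassicalGeometry.SympSiegel.ext_smul
    intro v
    obtain ⟨a, b, c, d, hv⟩ := dec v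
    have hv' : v = lc a b c d := hv
    rw [hv', pow_succ, pow_succ, pow_one, mul_smul, mul_smul, hu6, one_smul]
  · intro h
    have h1 := hu2 1 0 0 0
    rw [h, one_smul] at h1
    have h4 := (coef (v := (lc 1 0 0 0 : V)) h1).2.1
    have h5 := (coef (v := (lc 1 0 0 0 : V)) (rfl : (lc 1 0 0 0 : V) = _)).2.1
    rw [h5] at h4
    apply one_ne_zero (α := F)
    linear_combination -h4

/-! ### Subgroups of index a power of `3` -/

section Hall

variable [Finite F] [CharP F 3] (hF : ∀ a : F, a = 0 ∨ a = 1 ∨ a = -1)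

theorem h3F : (3 : F) = 0 := by
  have h : ((3 : ℕ) : F) = 0 := CharP.cast_eq_zero F 3
  exact_mod_cast h

theorem h2F : (2 : F) ≠ 0 := by
  intro h
  have h3 : (3 : F) = 0 := h3F
  have : (1 : F) = 0 := by linear_combination h3 - h
  exact one_ne_zero this

include hF in
/-- elements of order four in `SL_2(3)` lie in every subgroup of index a power of `3` without elements of order `3` -/
theorem mem_of_hall {D : Subgroup (Matrix.symplecticGroup (Fin 1) F)} {i : ℕ} (hD : D.index = 3 ^ i)
    (hD3 : ¬ 3 ∣ Nat.card D) {A : Matrix.symplecticGroup (Fin 1) F} (hA1 : A • e F 0 = v₀ F 0)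
    (hA2 : A • v₀ F 0 = -e F 0) : A ∈ D := by
  have hdec : ∀ w : Fin 1 ⊕ Fin 1 → F, w = w (.inr 0) • e F 0 + w (.inl 0) • v₀ F 0 := by
    intro w
    have h1 := decomp (n := 0) w
    have h2 : (ext (res w) : Fin (0 + 1) ⊕ Fin (0 + 1) → F) = 0 := by
      rw [show res w = 0 from Subsingleton.elim _ _, ext_zero]
    rw [h2, add_assoc] at h1
    exact h1.trans (zero_add _)
  have hext : ∀ g h : Matrix.symplecticGroup (Fin 1) F, g • e F 0 = h • e F 0 → g • v₀ F 0 = h • v₀ F 0 → g = h := by
    intro g h h1 h2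
    apply Cfsg.Agent.ClassicalGeometry.SympSiegel.ext_smul
    intro w
    rw [hdec w, smul_add', smul_smul', smul_smul', h1, h2, smul_add', smul_smul', smul_smul']
  have hcop : D.index.Coprime (MulAction.stabilizer (Matrix.symplecticGroup (Fin 1) F) (e F 0)).index := by
    rw [hD]
    exact Nat.Coprime.pow_left _ ((Nat.Prime.coprime_iff_not_dvd Nat.prime_three).2
      (vstab_index Nat.prime_three le_rfl e_ne))
  obtain ⟨d, hd, m, hm, hdm⟩ := exists_mul hcop A
  have hm' : m • e F 0 = e F 0 := hm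
  have hde : d • e F 0 = v₀ F 0 := by
    rw [← hA1, hdm, mul_smul, hm']
  have h1 : sympForm 1 F (d • e F 0) (d • v₀ F 0) = 1 := by
    rw [form_smul, form_e_v₀]
  have hve : sympForm 1 F (v₀ F 0) (e F 0) = -1 := by rw [sympForm_swap, form_e_v₀]
  obtain ⟨α, β, hdv⟩ : ∃ α β : F, d • v₀ F 0 = α • e F 0 + β • v₀ F 0 := ⟨_, _, hdec _⟩
  rw [hde, hdv, sympForm_add_right, sympForm_smul_right, sympForm_smul_right, sympForm_self, hve] at h1
  have hα : α = -1 := by linear_combination -h1
  rw [hα] at hdv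
  have hβ : β = 0 := by
    by_contra hβ0
    have hβ2 : β * β = 1 := by
      rcases hF β with h | h | h
      · exact absurd h hβ0
      · rw [h]; ring
      · rw [h]; ring
    have e2 : (d * d) • e F 0 = (-1 : F) • e F 0 + β • v₀ F 0 := by rw [mul_smul, hde, hdv]
    have v2 : (d * d) • v₀ F 0 = (-β) • e F 0 := by
      rw [mul_smul, hdv, smul_add', smul_smul', smul_smul', hde, hdv, smul_add, smul_smul, smul_smul, hβ2]
      module
    have e4 : (d * d * (d * d)) • e F 0 = (-β) • v₀ F 0 := by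
      have hβn : β * -β = -1 := by linear_combination -hβ2
      rw [mul_smul (d * d), e2, smul_add', smul_smul', smul_smul', e2, v2, smul_add, smul_smul, smul_smul,
        smul_smul, hβn]
      module
    have v4 : (d * d * (d * d)) • v₀ F 0 = β • e F 0 - v₀ F 0 := by
      rw [mul_smul (d * d), v2, smul_smul', e2, smul_add, smul_smul, smul_smul, neg_mul β β, hβ2]
      module
    have h6 : (d * d) ^ 3 = 1 := by
      have h7 : (d * d) ^ 3 = (d * d) * (d * d * (d * d)) := by
        rw [pow_succ, pow_succ, pow_one, mul_assoc]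
      rw [h7]
      apply hext
      · rw [mul_smul (d * d), e4, smul_smul', v2, smul_smul, neg_mul_neg, hβ2, one_smul, one_smul]
      · rw [mul_smul (d * d), v4, smul_sub', smul_smul', e2, v2, one_smul, smul_add, smul_smul, smul_smul, hβ2]
        module
    have h7 : d * d ≠ 1 := by
      intro h
      rw [h, one_smul] at e2
      have h8 := congrFun e2 (Sum.inl 0)
      simp [e, v₀] at h8
      exact hβ0 h8.symm
    have h8 : orderOf (⟨d * d, mul_mem hd hd⟩ : D) = 3 := by
      have : Fact (Nat.Prime 3) := ⟨Nat.prime_three⟩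
      refine orderOf_eq_prime (Subtype.ext h6) ?_
      intro h
      exact h7 (congrArg Subtype.val h)
    have h9 : orderOf (⟨d * d, mul_mem hd hd⟩ : D) ∣ Nat.card D := orderOf_dvd_natCard _
    rw [h8] at h9
    exact hD3 h9
  have hAd : A = d := by
    apply hext
    · rw [hA1, hde]
    · rw [hA2, hdv, hβ]
      simp
  rw [hAd]
  exact hd

include hF in
theorem w_mem {H : Subgroup G} {k : ℕ} (hH : H.index = 3 ^ k) (hH3 : ¬ 3 ∣ Nat.card H)
    {A : Matrix.symplecticGroup (Fin 1) F} (hA1 : A • e F 0 = v₀ F 0) (hA2 : A • v₀ F 0 = -e F 0) {g : G}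
    (hg : g * dd 1 (-1) * g⁻¹ ∈ H) : g * emb A * g⁻¹ ∈ H := by
  let H' : Subgroup G := H.comap (MulAut.conj g).toMonoidHom
  have hH' : H'.index = 3 ^ k := by
    rw [← hH]
    exact Subgroup.index_comap_of_surjective _ (MulAut.conj g).surjective
  have hY : Y F 1 ≤ H' := by
    rintro _ ⟨a, rfl⟩
    rcases hF (a : F) with h | h | h
    · exact absurd h a.ne_zero
    · have : a = 1 := Units.ext h
      rw [this, dd_one]
      exact one_mem _
    · have : a = -1 := Units.ext h
      rw [this]
      exact hg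
  obtain ⟨j, hj⟩ := relIndex_normalizer (M := Ml (e F 1)) (Q := Q (e F 1)) (Y := Y F 1) Nat.prime_three hH'
    (Ml_index Nat.prime_three (by omega) e_ne) (Q_le_Ml _) (Ml_le_normalizer e_ne)
    (by have : Fact (Nat.Prime 3) := ⟨Nat.prime_three⟩; exact isPGroup_Q 3 _) (by
      rintro _ ⟨b, rfl⟩
      exact ⟨(b : F), b.ne_zero, dd_e b⟩) (not_dvd_card_Y Nat.prime_three) (by
      intro m hm y hy
      have h1 := Y_comm hm hy
      have h2 : m * y * m⁻¹ = (m * y * m⁻¹ * y⁻¹) * y := by group
      rw [h2]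
      exact mul_mem (Subgroup.mem_sup_left h1) (Subgroup.mem_sup_right hy)) hY
  let D : Subgroup (Matrix.symplecticGroup (Fin 1) F) := H'.comap emb
  have hDi : D.index ∣ 3 ^ j := by
    rw [← hj]
    have h1 : D.index = H'.relIndex (emb : Matrix.symplecticGroup (Fin 1) F →* G).range := Subgroup.index_comap _ _
    rw [h1]
    apply relIndex_dvd_of_le_normalizer
    · rintro _ ⟨B, rfl⟩
      rw [Subgroup.mem_normalizer_iff]
      intro y
      constructor
      · rintro ⟨b, rfl⟩
        refine ⟨b, ?_⟩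
        rw [emb_comm, mul_inv_cancel_right]
      · rintro ⟨b, hb⟩
        refine ⟨b, ?_⟩
        have h2 : y = (emb B)⁻¹ * dd 1 b * emb B := by rw [hb]; group
        rw [h2, mul_assoc, ← emb_comm, inv_mul_cancel_left]
    · intro x hx
      have h2F' : (((-1 : Fˣ) : Fˣ) : F) ≠ 1 := by
        intro h
        have h4 : (-1 : F) = 1 := by simpa using h
        apply h2F (F := F)
        linear_combination -h4
      have hcomm : ∀ x : G, x ∈ Subgroup.normalizer (Y F 1 : Set G) → x * dd 1 (-1) = dd 1 (-1) * x := by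
        intro x hx
        have h2 := (Subgroup.mem_normalizer_iff.1 hx (dd 1 (-1))).1 ⟨_, rfl⟩
        obtain ⟨b, hb⟩ := h2
        have h3 : b = -1 := by
          rcases hF (b : F) with h | h | h
          · exact absurd h b.ne_zero
          · have h4 : b = 1 := Units.ext h
            rw [h4, dd_one] at hb
            exfalso
            have h5 : (dd 1 (-1) : G) = 1 := by
              have h6 : (dd 1 (-1) : G) = x⁻¹ * (x * dd 1 (-1) * x⁻¹) * x := by group
              rw [h6, ← hb]; group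
            have h7 := dd_e (n := 1) (F := F) (-1)
            rw [h5, one_smul] at h7
            have h8 := congrFun h7 (Sum.inr 0)
            simp [e] at h8
            apply h2F (F := F)
            linear_combination h8
          · exact Units.ext h
        rw [h3] at hb
        rw [eq_mul_inv_iff_mul_eq] at hb
        exact hb.symm
      rw [Subgroup.mem_normalizer_iff]
      intro y
      have hxi := hcomm _ (inv_mem hx)
      constructor
      · intro hy
        have h3 := centralizer_conj h2F' hxi hy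
        rwa [inv_inv] at h3
      · intro hy
        have h3 := centralizer_conj h2F' (hcomm _ hx) hy
        rwa [show x⁻¹ * (x * y * x⁻¹) * x = y by group] at h3
  obtain ⟨i, hi⟩ := exists_pow Nat.prime_three hDi
  have hD3 : ¬ 3 ∣ Nat.card D := by
    intro h
    apply hH3
    have h1 : Nat.card D ∣ Nat.card H' := Subgroup.card_comap_dvd_of_injective _ _ emb_injective
    have h2 : Nat.card H' ∣ Nat.card H := Subgroup.card_comap_dvd_of_injective _ _ (MulAut.conj g).injective
    exact (h.trans h1).trans h2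
  exact mem_of_hall hF hi hD3 hA1 hA2

include hF in
/-- **`Sp_4(3)` has no subgroup of order prime to `3` and index a power of `3`** -/
theorem not_hall {H : Subgroup G} {k : ℕ} (hH : H.index = 3 ^ k) (hH3 : ¬ 3 ∣ Nat.card H) : False := by
  have h3 : (3 : F) = 0 := h3F
  have h2 : (2 : F) ≠ 0 := h2F
  have hp3 : Fact (Nat.Prime 3) := ⟨Nat.prime_three⟩
  -- a conjugate contains the torus
  obtain ⟨g₀, -, hg₀⟩ := exists_conj_le_H (M := Ml (e F 1)) (Q := Q (e F 1)) (Y := Y F 1) Nat.prime_three hH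
    (Ml_index Nat.prime_three (by omega) e_ne) (Q_le_Ml _) (Ml_le_normalizer e_ne)
    (isPGroup_Q 3 _) (by
      rintro _ ⟨b, rfl⟩
      exact ⟨(b : F), b.ne_zero, dd_e b⟩) (not_dvd_card_Y Nat.prime_three) (by
      intro m hm y hy
      have h1 := Y_comm hm hy
      have h2 : m * y * m⁻¹ = (m * y * m⁻¹ * y⁻¹) * y := by group
      rw [h2]
      exact mul_mem (Subgroup.mem_sup_left h1) (Subgroup.mem_sup_right hy))
  obtain ⟨K, hK, hK3, ht⟩ : ∃ K : Subgroup G, K.index = 3 ^ k ∧ ¬ 3 ∣ Nat.card K ∧ dd 1 (-1) ∈ K := by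
    refine ⟨H.comap (MulAut.conj g₀).toMonoidHom, ?_, ?_, hg₀ _ ⟨-1, rfl⟩⟩
    · rw [← hH]
      exact Subgroup.index_comap_of_surjective _ (MulAut.conj g₀).surjective
    · intro h
      exact hH3 (h.trans (Subgroup.card_comap_dvd_of_injective _ _ (MulAut.conj g₀).injective))
  clear hg₀ hH hH3
  -- the element of order four
  obtain ⟨A, -, hA1', hA2'⟩ := exists_transvGroup_hyperbolic (m := 1) (F := F) (u := e F 0) (v := v₀ F 0)
    (u' := v₀ F 0) (v' := -e F 0) form_e_v₀ (by
      rw [sympForm_neg_right, sympForm_swap, form_e_v₀, neg_neg])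
  have hA1 : A • e F 0 = v₀ F 0 := hA1'
  have hA2 : A • v₀ F 0 = -e F 0 := hA2'
  have hwx : emb A • x₁ F = y₁ F := by
    unfold x₁ y₁
    rw [emb_smul_ext, hA1]
  have hwy : emb A • y₁ F = -x₁ F := by
    unfold x₁ y₁
    rw [emb_smul_ext, hA2, ext_neg]
  have hwe : emb A • e F 1 = e F 1 := emb_smul_e A
  have hwv : emb A • v₀ F 1 = v₀ F 1 := emb_smul_v₀ A
  have key : ∀ g : G, g * dd 1 (-1) * g⁻¹ ∈ K → g * emb A * g⁻¹ ∈ K := fun g hg => w_mem hF hK hK3 hA1 hA2 hg
  have hw : emb A ∈ K := by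
    have h1 := key 1 (by simpa using ht)
    simpa using h1
  -- the involutions
  have hRt : IsR (x₁ F) (y₁ F) (dd 1 (-1) : G) := by
    intro v
    obtain ⟨α, β, γ, δ, hv⟩ := dec v
    obtain ⟨c1, c2, c3, c4⟩ := coef hv
    have c4' : f v (x₁ F) = -δ := by rw [sympForm_swap, c4]
    have hx : dd 1 (-1) • x₁ F = x₁ F := dd_ext _ _
    have hy : dd 1 (-1) • y₁ F = y₁ F := dd_ext _ _
    rw [c3, c4', hv, smul_add', smul_add', smul_add', smul_smul', smul_smul', smul_smul', smul_smul', hx, hy, dd_e,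
      dd_v₀]
    simp only [Units.val_neg, Units.val_one, inv_neg, inv_one]
    module
  have hWw : IsW (x₁ F) (y₁ F) (emb A : G) := by
    intro v
    obtain ⟨α, β, γ, δ, hv⟩ := dec v
    obtain ⟨c1, c2, c3, c4⟩ := coef hv
    have c4' : f v (x₁ F) = -δ := by rw [sympForm_swap, c4]
    rw [c3, c4', hv, smul_add', smul_add', smul_add', smul_smul', smul_smul', smul_smul', smul_smul', hwx, hwy, hwe,
      hwv]
    module
  have hRw : IsR (e F 1) (v₀ F 1) (emb A * emb A : G) := by
    intro v
    obtain ⟨α, β, γ, δ, hv⟩ := dec v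
    obtain ⟨c1, c2, c3, c4⟩ := coef hv
    have c2' : f v (e F 1) = -β := by rw [sympForm_swap, c2]
    rw [c1, c2', hv, mul_smul]
    simp only [smul_add', smul_smul', hwx, hwy, hwe, hwv, smul_neg']
    module
  -- a conjugate of the involution in `K`
  have hx0 : (e F 1 + x₁ F : V) ≠ 0 := by
    intro h
    have h1 : f (e F 1 + x₁ F) (v₀ F 1) = 0 := by rw [h, sympForm_zero_left]
    rw [sympForm_add_left, fev, fxv, add_zero] at h1
    exact one_ne_zero h1
  have hx₁0 : x₁ F ≠ 0 := by
    intro h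
    have h1 : f (x₁ F) (y₁ F) = 0 := by rw [h, sympForm_zero_left]
    rw [fxy] at h1
    exact one_ne_zero h1
  obtain ⟨g₁, hg₁⟩ := exists_smul_eq hx₁0 hx0
  have hcop : K.index.Coprime (MulAction.stabilizer G (x₁ F)).index := by
    rw [hK]
    exact Nat.Coprime.pow_left _ ((Nat.Prime.coprime_iff_not_dvd Nat.prime_three).2
      (vstab_index Nat.prime_three (by omega) hx₁0))
  obtain ⟨h, hh, m, hm, hgm⟩ := exists_mul hcop g₁
  have hhx : h • x₁ F = e F 1 + x₁ F := by
    rw [← hg₁, hgm, mul_smul, show m • x₁ F = x₁ F from hm]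
  have hs := hRt.conj h
  rw [hhx] at hs
  have hsK : h * dd 1 (-1) * h⁻¹ ∈ K := mul_mem (mul_mem hh ht) (inv_mem hh)
  obtain ⟨α, β, γ, δ, hy'⟩ := dec (h • y₁ F)
  have hfxy' : f (e F 1 + x₁ F) (h • y₁ F) = 1 := by
    have h1 := form_smul h (x₁ F) (y₁ F)
    rwa [hhx, fxy] at h1
  have hβδ : β + δ = 1 := by
    rw [sympForm_add_left, (coef hy').2.1, (coef hy').2.2.2] at hfxy'
    exact hfxy'
  have hsx : (h * dd 1 (-1) * h⁻¹) • (e F 1 + x₁ F) = e F 1 + x₁ F := by
    rw [hs, hfxy', sympForm_self, zero_smul]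
    module
  by_cases hβ : β = 0
  · have hδ : δ = 1 := by rw [hβ, zero_add] at hβδ; exact hβδ
    have e1 := (hs.add (-α)).swap
    have e2 : h • y₁ F + (-α) • (e F 1 + x₁ F) = y₁ F + (γ - α) • x₁ F := by
      rw [hy', hβ, hδ]
      module
    rw [e2] at e1
    have e3 := (hRt.add (γ - α)).swap
    have e4 : f (y₁ F + (γ - α) • x₁ F) (-(x₁ F)) = 1 := by
      rw [sympForm_neg_right, sympForm_add_left, sympForm_smul_left, fyx, sympForm_self]
      ring
    have e5 : f (y₁ F + (γ - α) • x₁ F) (-(e F 1 + x₁ F)) = 1 := by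
      rw [sympForm_neg_right, sympForm_add_left, sympForm_add_right, sympForm_add_right, sympForm_smul_left,
        sympForm_smul_left, fyx, sympForm_self, fye, fxe]
      ring
    have e6 : y₁ F + (γ - α) • x₁ F ≠ 0 := by
      intro h
      rw [h, sympForm_zero_left] at e4
      exact zero_ne_one e4
    have e7 := e1.eq_of_common Nat.prime_three hK3 e6 e5 e4 e3 hsK ht
    rw [e7] at hsx
    have e8 := congrArg (fun v => f v (v₀ F 1)) hsx
    simp only [smul_add', dd_e, sympForm_add_left, sympForm_smul_left, fev, fxv,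
      show dd 1 (-1) • x₁ F = x₁ F from dd_ext _ _] at e8
    simp only [Units.val_neg, Units.val_one, mul_one, add_zero] at e8
    apply h2
    linear_combination -e8
  by_cases hδ : δ = 0
  · have hβ1 : β = 1 := by rw [hδ, add_zero] at hβδ; exact hβδ
    have e1 := (hs.add (-γ)).swap
    have e2 : h • y₁ F + (-γ) • (e F 1 + x₁ F) = v₀ F 1 + (α - γ) • e F 1 := by
      rw [hy', hβ1, hδ]
      module
    rw [e2] at e1
    have e3 := (hRw.add (α - γ)).swap
    have e4 : f (v₀ F 1 + (α - γ) • e F 1) (-(e F 1)) = 1 := by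
      rw [sympForm_neg_right, sympForm_add_left, sympForm_smul_left, fve, sympForm_self]
      ring
    have e5 : f (v₀ F 1 + (α - γ) • e F 1) (-(e F 1 + x₁ F)) = 1 := by
      rw [sympForm_neg_right, sympForm_add_left, sympForm_add_right, sympForm_add_right, sympForm_smul_left,
        sympForm_smul_left, fve, sympForm_self, fvx, fex]
      ring
    have e6 : v₀ F 1 + (α - γ) • e F 1 ≠ 0 := by
      intro h
      rw [h, sympForm_zero_left] at e4
      exact zero_ne_one e4
    have e7 := e1.eq_of_common Nat.prime_three hK3 e6 e5 e4 e3 hsK (mul_mem hw hw)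
    rw [e7] at hsx
    have e8 := congrArg (fun v => f v (y₁ F)) hsx
    simp only [mul_smul, smul_add', hwe, hwx, hwy, sympForm_add_left, sympForm_neg_left, fey, fxy] at e8
    apply h2
    linear_combination -e8
  have hβ' : β = -1 := by
    rcases hF β with h1 | h1 | h1
    · exact absurd h1 hβ
    · exfalso
      rw [h1] at hβδ
      apply hδ
      linear_combination hβδ
    · exact h1
  have hδ' : δ = -1 := by
    rw [hβ'] at hβδ
    linear_combination hβδ + h3
  have hRs : IsR (e F 1 + x₁ F) (-v₀ F 1 - y₁ F) (sw F) := by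
    intro v
    obtain ⟨a, b, c, d, hv⟩ := dec v
    obtain ⟨c1, c2, c3, c4⟩ := coef hv
    have c2' : f v (e F 1) = -b := by rw [sympForm_swap, c2]
    have c4' : f v (x₁ F) = -d := by rw [sympForm_swap, c4]
    rw [sympForm_sub_right, sympForm_neg_right, sympForm_add_right, c1, c2', c3, c4']
    have e1 : sw F • v = c • e F 1 + d • v₀ F 1 + a • x₁ F + b • y₁ F := by
      rw [hv, smul_add', smul_add', smul_add', smul_smul', smul_smul', smul_smul', smul_smul', sw_e, sw_v, sw_x, sw_y]
      module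
    rw [e1]
    conv_rhs => rw [hv]
    have e2 : (2 : F) • ((-a - c) • (e F 1 + x₁ F) - (-b + -d) • (-v₀ F 1 - y₁ F)) -
        (a • e F 1 + b • v₀ F 1 + c • x₁ F + d • y₁ F) =
        (c - (a + c) * 3) • e F 1 + (d - (b + d) * 3) • v₀ F 1 + (a - (a + c) * 3) • x₁ F +
        (b - (b + d) * 3) • y₁ F := by
      module
    rw [e2, h3, mul_zero, mul_zero, sub_zero, sub_zero, sub_zero, sub_zero]
  -- conjugation by an element of the small group
  let τ : G := emb (transv (e F 0) (γ - α))
  have hτe : τ • e F 1 = e F 1 := emb_smul_e _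
  have hτv : τ • v₀ F 1 = v₀ F 1 := emb_smul_v₀ _
  have hτx : τ • x₁ F = x₁ F := by
    change emb (transv (e F 0) (γ - α)) • (ext (e F 0) : V) = _
    rw [emb_smul_ext, transv_smul, sympForm_self, mul_zero, zero_smul, add_zero]
    rfl
  have hτy : τ • y₁ F = y₁ F - (γ - α) • x₁ F := by
    change emb (transv (e F 0) (γ - α)) • (ext (v₀ F 0) : V) = _
    have hve : sympForm 1 F (v₀ F 0) (e F 0) = -1 := by rw [sympForm_swap, form_e_v₀]
    have e1 : (γ - α) * sympForm 1 F (v₀ F 0) (e F 0) = -(γ - α) := by rw [hve]; ring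
    rw [emb_smul_ext, transv_smul, e1, ext_add, Cfsg.Agent.H62.SpEmb.ext_smul, neg_smul]
    exact (sub_eq_add_neg _ _).symm
  have e1 := hs.add (-α)
  have e2 : h • y₁ F + (-α) • (e F 1 + x₁ F) = τ • (-v₀ F 1 - y₁ F) := by
    rw [smul_sub', smul_neg', hτv, hτy, hy', hβ', hδ']
    module
  have e3 := hRs.conj τ
  rw [smul_add', hτe, hτx, ← e2] at e3
  have e4 : τ * sw F * τ⁻¹ ∈ K := by
    rw [e3.unique e1]
    exact hsK
  have e5 : τ * emb A * τ⁻¹ ∈ K := by
    apply key
    have e6 : τ * dd 1 (-1) * τ⁻¹ = dd 1 (-1) := by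
      rw [mul_inv_eq_iff_eq_mul]
      exact emb_comm _ _
    rw [e6]
    exact ht
  obtain ⟨g₃, -, hg1, hg2⟩ := exists_transvGroup_hyperbolic (m := 2) (F := F) (u := x₁ F) (v := y₁ F)
    (u' := e F 1 + x₁ F) (v' := -v₀ F 1 - y₁ F) fxy (by
      rw [sympForm_add_left, sympForm_sub_right, sympForm_sub_right, sympForm_neg_right, sympForm_neg_right, fev, fey,
        fxv, fxy]
      linear_combination -h3)
  have hg1' : g₃ • x₁ F = e F 1 + x₁ F := hg1
  have hg2' : g₃ • y₁ F = -v₀ F 1 - y₁ F := hg2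
  have e6 := hRt.conj g₃
  rw [hg1', hg2'] at e6
  have e7 := e6.unique hRs
  have e8 : (τ * g₃) * emb A * (τ * g₃)⁻¹ ∈ K := by
    apply key
    have e9 : (τ * g₃) * dd 1 (-1) * (τ * g₃)⁻¹ = τ * (g₃ * dd 1 (-1) * g₃⁻¹) * τ⁻¹ := by group
    rw [e9, e7]
    exact e4
  have e9 := hWw.conj g₃
  rw [hg1', hg2'] at e9
  obtain ⟨o1, o2⟩ := order_six h3 hwx hwy hwe hwv e9
  have e10 : τ * ((emb A * (g₃ * emb A * g₃⁻¹)) * (emb A * (g₃ * emb A * g₃⁻¹))) * τ⁻¹ ∈ K := by
    have e11 := mul_mem e5 e8
    have e12 : τ * ((emb A * (g₃ * emb A * g₃⁻¹)) * (emb A * (g₃ * emb A * g₃⁻¹))) * τ⁻¹ =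
        (τ * emb A * τ⁻¹ * ((τ * g₃) * emb A * (τ * g₃)⁻¹)) * (τ * emb A * τ⁻¹ * ((τ * g₃) * emb A * (τ * g₃)⁻¹)) := by
      group
    rw [e12]
    exact mul_mem e11 e11
  have e11 : orderOf (⟨_, e10⟩ : K) = 3 := by
    refine orderOf_eq_prime (Subtype.ext ?_) ?_
    · change (τ * _ * τ⁻¹) ^ 3 = 1
      rw [conj_pow, o1, mul_one, mul_inv_cancel]
    · intro h
      have e12 : τ * _ * τ⁻¹ = 1 := congrArg Subtype.val h
      rw [mul_inv_eq_one, mul_eq_left] at e12
      exact o2 e12
  have e12 : orderOf (⟨_, e10⟩ : K) ∣ Nat.card K := orderOf_dvd_natCard _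
  rw [e11] at e12
  exact hK3 e12

end Hall

end Three

end Cfsg.Agent.H969.SpThree
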