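import Mathlib
import Cfsg.Agent.H969.SpPi
import Cfsg.Agent.H969.SpBase
import Cfsg.Agent.LieClassical.SympCount

/-!
# `Sp_{2m}(2)`: the step (helper969)

`good_succ_two` : `Good 2 (Sp_{2n}(2))` implies `Good 2 (PSp_{2n+2}(2))`, `n ≥ 2`.
-/

set_option autoImplicit false
open Cfsg
open scoped Matrix
open Cfsg.Agent.ClassicalGeometry.SympBasic Cfsg.Agent.ClassicalGeometry.SympSiegel
open Cfsg.Agent.H408.Core Cfsg.Agent.H408.LemmaK Cfsg.Agent.H408.RgdK Cfsg.Agent.H62.SpEmb Cfsg.Agent.H969.SpStep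
open Cfsg.Agent.H969.SpPi Cfsg.Agent.H969.SpBase

namespace Cfsg.Agent.H969.SpTwo

variable {F : Type*} [Field F] {m : ℕ}

/-- the parabolic data in `Sp_{2m}(2)` -/
def Par (m : ℕ) (F : Type*) [Field F] : Prop :=
  ∃ (M Q : Subgroup (Matrix.symplecticGroup (Fin m) F)) (y : Matrix.symplecticGroup (Fin m) F)
    (u v : Fin m ⊕ Fin m → F), sympForm m F u v = 1 ∧ y • u = v ∧ y • v = u + v ∧
    (∀ w, sympForm m F u w = 0 → sympForm m F v w = 0 → y • w = w) ∧ orderOf y = 3 ∧
    ¬ 2 ∣ M.index ∧ Q ≤ M ∧ M ≤ Subgroup.normalizer (Q : Set (Matrix.symplecticGroup (Fin m) F)) ∧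
    IsPGroup 2 Q ∧ y ∈ M ∧ ∀ g ∈ M, ∀ x ∈ Subgroup.zpowers y, ∃ q ∈ Q, ∃ x' ∈ Subgroup.zpowers y,
      g * x * g⁻¹ = q * x'

theorem par_one [Finite F] [CharP F 2] (hF : Nat.card F = 2) : Par 1 F := by
  classical
  have hfF := Fintype.ofFinite F
  have : Fact (Nat.Prime 2) := ⟨Nat.prime_two⟩
  have hFc : Fintype.card F = 2 := by rw [← Nat.card_eq_fintype_card, hF]
  have hcard : Nat.card (Matrix.symplecticGroup (Fin 1) F) = 6 := by
    rw [Cfsg.Agent.LieClassical.SympCount.card_symplecticGroup, hFc]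
    simp
  have hve : sympForm 1 F (v₀ F 0) (e F 0) = -1 := by rw [sympForm_swap, form_e_v₀]
  have hneg : ∀ x : Fin 1 ⊕ Fin 1 → F, x + x = 0 := by
    intro x
    have h1 : ((2 : ℕ) : F) = 0 := CharP.cast_eq_zero F 2
    have h2 : x + x = ((2 : ℕ) : F) • x := by
      push_cast
      rw [two_smul]
    rw [h2, h1, zero_smul]
  obtain ⟨y, -, hy1, hy2⟩ := exists_transvGroup_hyperbolic (m := 1) (F := F) (u := e F 0) (v := v₀ F 0)
    (u' := v₀ F 0) (v' := e F 0 + v₀ F 0) form_e_v₀ (by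
      rw [sympForm_add_right, sympForm_self, hve, add_zero]
      exact (CharTwo.neg_eq (1 : F)))
  have hyu : y • e F 0 = v₀ F 0 := hy1
  have hyv : y • v₀ F 0 = e F 0 + v₀ F 0 := hy2
  have hdec : ∀ w : Fin 1 ⊕ Fin 1 → F, w = w (.inr 0) • e F 0 + w (.inl 0) • v₀ F 0 := by
    intro w
    have h1 := decomp (n := 0) w
    have h2 : (ext (res w) : Fin (0 + 1) ⊕ Fin (0 + 1) → F) = 0 := by
      rw [show res w = 0 from Subsingleton.elim _ _, ext_zero]
    rw [h2, add_assoc] at h1
    exact h1.trans (zero_add _)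
  have hy3 : y ^ 3 = 1 := by
    apply Cfsg.Agent.ClassicalGeometry.SympSiegel.ext_smul
    have h1 : y ^ 3 • e F 0 = e F 0 := by
      rw [pow_succ, pow_succ, pow_one, mul_smul, mul_smul, hyu, hyv, smul_add', hyu, hyv, add_comm (e F 0), ← add_assoc,
        hneg]
      exact zero_add _
    have h2 : y ^ 3 • v₀ F 0 = v₀ F 0 := by
      rw [pow_succ, pow_succ, pow_one, mul_smul, mul_smul, hyv, smul_add', hyu, hyv, smul_add', smul_add', hyu, hyv]
      have h3 : v₀ F 0 + (e F 0 + v₀ F 0) = e F 0 + (v₀ F 0 + v₀ F 0) := by abel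
      have h4 : e F 0 + v₀ F 0 + (v₀ F 0 + (e F 0 + v₀ F 0)) = v₀ F 0 + (e F 0 + e F 0) + (v₀ F 0 + v₀ F 0) := by abel
      first
        | rw [h4, hneg, hneg, add_zero, add_zero]
        | (rw [h3, hneg, add_zero]; abel_nf; simp)
    intro w
    rw [one_smul, hdec w, smul_add', smul_smul', smul_smul', h1, h2]
  have hy1' : y ≠ 1 := by
    intro h
    rw [h, one_smul] at hyu
    have := congrFun hyu (Sum.inr 0)
    simp [e, v₀] at this
  have ho : orderOf y = 3 := orderOf_eq_prime hy3 hy1'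
  have hidx : (Subgroup.zpowers y).index = 2 := by
    have h1 := (Subgroup.zpowers y).card_mul_index
    rw [Nat.card_zpowers, ho, hcard] at h1
    omega
  have hn : (Subgroup.zpowers y).Normal := Subgroup.normal_of_index_eq_two hidx
  refine ⟨⊤, ⊥, y, e F 0, v₀ F 0, form_e_v₀, hyu, hyv, ?_, ho, ?_, bot_le, ?_, IsPGroup.of_bot, Subgroup.mem_top _, ?_⟩
  · intro w h1 h2
    have h3 : w (.inl 0) = 0 := (form_e (n := 0) w).symm.trans h1
    have h4 : w (.inr 0) = 0 := by
      have h5 : sympForm 1 F (v₀ F 0) w = -w (.inr 0) := sympForm_single_inl_left 0 w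
      rw [h5] at h2
      exact neg_eq_zero.1 h2
    have h6 := hdec w
    rw [h3, h4, zero_smul, zero_smul, add_zero] at h6
    rw [h6, smul_zero']
  · rw [Subgroup.index_top]
    norm_num
  · exact Subgroup.le_normalizer_of_normal
  · intro g _ x hx
    exact ⟨1, Subgroup.one_mem _, g * x * g⁻¹, hn.conj_mem x hx g, by rw [one_mul]⟩

theorem par_succ [Finite F] [CharP F 2] {n : ℕ} (h : Par n F) : Par (n + 1) F := by
  obtain ⟨M, Q, y, u, v, huv, hyu, hyv, hyw, hy3, hM, hQM, hMQ, hQ, hyM, hMY⟩ := h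
  have : Fact (Nat.Prime 2) := ⟨Nat.prime_two⟩
  refine ⟨lift M, lift Q, emb y, ext u, ext v, ?_, ?_, ?_, ?_, ?_, index_lift Nat.prime_two hM, lift_mono hQM,
    lift_le_normalizer hMQ, isPGroup_lift hQ, ?_, ?_⟩
  · rw [form_ext, huv]
  · rw [emb_smul_ext, hyu]
  · rw [emb_smul_ext, hyv, ext_add]
  · intro w h1 h2
    rw [form_ext_left] at h1 h2
    rw [emb_smul, hyw _ h1 h2, sub_self, ext_zero, add_zero]
  · rw [orderOf_injective _ emb_injective, hy3]
  · rw [mem_lift]
    refine ⟨emb_smul_e y, ?_⟩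
    have h1 : pr F n ⟨emb y, emb_smul_e y⟩ = y := pr_sec y
    rw [h1]
    exact hyM
  · intro g hg x hx
    obtain ⟨hge, hgM⟩ := mem_lift.1 hg
    obtain ⟨x₀, hx₀, rfl⟩ : ∃ x₀ ∈ Subgroup.zpowers y, emb x₀ = x := by
      rw [← MonoidHom.map_zpowers] at hx
      exact hx
    obtain ⟨q, hq, x', hx', hqx⟩ := hMY _ hgM _ hx₀
    have hx'e : (emb x' : Matrix.symplecticGroup (Fin (n + 1)) F) ∈ Subgroup.zpowers (emb y) := by
      rw [← MonoidHom.map_zpowers]
      exact ⟨x', hx', rfl⟩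
    have hmem : g * emb x₀ * g⁻¹ * (emb x')⁻¹ ∈ lift Q := by
      let gs : MulAction.stabilizer (Matrix.symplecticGroup (Fin (n + 1)) F) (e F n) := ⟨g, hge⟩
      refine ⟨gs * sec F n x₀ * gs⁻¹ * (sec F n x')⁻¹, ?_, rfl⟩
      change pr F n (gs * sec F n x₀ * gs⁻¹ * (sec F n x')⁻¹) ∈ Q
      rw [map_mul, map_mul, map_mul, map_inv, map_inv, pr_sec, pr_sec, hqx, mul_inv_cancel_right]
      exact hq
    exact ⟨_, hmem, _, hx'e, by group⟩

theorem par [Finite F] [CharP F 2] (hF : Nat.card F = 2) (n : ℕ) : Par (n + 1) F := by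
  induction n with
  | zero => exact par_one hF
  | succ n ih => exact par_succ ih

theorem good_succ_two [Finite F] [CharP F 2] (hF : Nat.card F = 2) {n : ℕ} (hn : 2 ≤ n)
    (hgood : Good 2 (Matrix.symplecticGroup (Fin n) F)) : Good 2 (PSp (n + 1) F) := by
  classical
  have hfF := Fintype.ofFinite F
  have : IsSimpleGroup (PSp (n + 1) F) := Cfsg.Agent.S0270.result (n + 1) (by omega) (fun _ => by omega)
  have : Fact (Nat.Prime 2) := ⟨Nat.prime_two⟩
  obtain ⟨M, Q, y, u, v, huv, hyu, hyv, hyw, hy3, hM, hQM, hMQ, hQ, hyM, hMY⟩ := par (F := F) hF n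
  have hvu : sympForm (n + 1) F v u = -1 := by rw [sympForm_swap, huv]
  -- the stabiliser of the hyperbolic pair
  let K : Subgroup (Matrix.symplecticGroup (Fin (n + 1)) F) := MulAction.stabilizer _ u ⊓ MulAction.stabilizer _ v
  have hK : ∀ k, k ∈ K ↔ k • u = u ∧ k • v = v := fun k => Iff.rfl
  -- decomposition
  have hdec : ∀ x : Fin (n + 1) ⊕ Fin (n + 1) → F, ∃ (a b : F) (w : Fin (n + 1) ⊕ Fin (n + 1) → F),
      sympForm (n + 1) F u w = 0 ∧ sympForm (n + 1) F v w = 0 ∧ x = a • u + b • v + w := by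
    intro x
    refine ⟨-sympForm (n + 1) F v x, sympForm (n + 1) F u x,
      x - (-sympForm (n + 1) F v x) • u - (sympForm (n + 1) F u x) • v, ?_, ?_, by abel⟩
    · simp only [sympForm_sub_right, sympForm_smul_right, sympForm_self, huv]
      ring
    · simp only [sympForm_sub_right, sympForm_smul_right, sympForm_self, hvu]
      ring
  have hspan : ∀ x : Fin (n + 1) ⊕ Fin (n + 1) → F, ∃ a b : F, y • x - x = a • u + b • v := by
    intro x
    obtain ⟨a, b, w, h1, h2, rfl⟩ := hdec x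
    refine ⟨b - a, a, ?_⟩
    rw [smul_add', smul_add', smul_smul', smul_smul', hyu, hyv, hyw w h1 h2]
    module
  have hKY : K ≤ Subgroup.centralizer (Subgroup.zpowers y : Set (Matrix.symplecticGroup (Fin (n + 1)) F)) := by
    intro k hk
    have h1 : k * y = y * k := by
      apply Cfsg.Agent.ClassicalGeometry.SympSiegel.ext_smul
      intro x
      obtain ⟨a, b, w, h1, h2, rfl⟩ := hdec x
      have h3 : y • (k • w) = k • w := by
        apply hyw
        · rw [← hk.1, form_smul, h1]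
        · rw [← hk.2, form_smul, h2]
      have hku : k • u = u := hk.1
      have hkv : k • v = v := hk.2
      simp only [mul_smul, smul_add', smul_smul', hyu, hyv, hku, hkv, hyw w h1 h2, h3]
    rw [Subgroup.mem_centralizer_iff]
    rintro _ ⟨j, rfl⟩
    have h2 : Commute k y := h1
    exact (h2.zpow_right j).eq.symm
  -- the centraliser
  have hconj : ∀ g, g * y = y * g → ∀ k ∈ K, g⁻¹ * k * g ∈ K := by
    intro g hg k hk
    have h1 : ∀ x : Fin (n + 1) ⊕ Fin (n + 1) → F, g • (y • x - x) = y • (g • x) - g • x := by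
      intro x
      rw [smul_sub', ← mul_smul, hg, mul_smul]
    have hu : ∃ a b : F, g • u = a • u + b • v := by
      obtain ⟨a, b, hab⟩ := hspan (g • v)
      refine ⟨a, b, ?_⟩
      rw [← hab, ← h1, hyv, add_sub_cancel_right]
    have hv : ∃ a b : F, g • v = a • u + b • v := by
      obtain ⟨a, b, hab⟩ := hspan (g • u)
      obtain ⟨c, d, hcd⟩ := hu
      refine ⟨a + c, b + d, ?_⟩
      have h2 := h1 u
      rw [hab, hyu, smul_sub', hcd] at h2
      have h3 : g • v = (g • v - (c • u + d • v)) + (c • u + d • v) := by abel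
      rw [h3, h2]
      module
    have hku : k • u = u := hk.1
    have hkv : k • v = v := hk.2
    obtain ⟨a, b, hab⟩ := hu
    obtain ⟨c, d, hcd⟩ := hv
    constructor
    · change (g⁻¹ * k * g) • u = u
      rw [mul_smul, mul_smul, hab, smul_add', smul_smul', smul_smul', hku, hkv, ← hab, inv_smul_smul]
    · change (g⁻¹ * k * g) • v = v
      rw [mul_smul, mul_smul, hcd, smul_add', smul_smul', smul_smul', hku, hkv, ← hcd, inv_smul_smul]
  have hCK : Subgroup.centralizer (Subgroup.zpowers y : Set (Matrix.symplecticGroup (Fin (n + 1)) F)) ≤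
      Subgroup.normalizer (K : Set (Matrix.symplecticGroup (Fin (n + 1)) F)) := by
    intro g hg
    rw [Subgroup.mem_centralizer_iff] at hg
    have h1 : g * y = y * g := (hg _ (Subgroup.mem_zpowers y)).symm
    have h2 : g⁻¹ * y = y * g⁻¹ := by
      rw [inv_mul_eq_iff_eq_mul, ← mul_assoc, h1, mul_assoc, mul_inv_cancel, mul_one]
    rw [Subgroup.mem_normalizer_iff]
    intro k
    constructor
    · intro hk
      have h3 := hconj _ h2 k hk
      rwa [inv_inv] at h3
    · intro hk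
      have h3 := hconj _ h1 _ hk
      rwa [show g⁻¹ * (g * k * g⁻¹) * g = k by group] at h3
  -- `K` is a conjugate of the embedded group
  obtain ⟨A, -, hA1, hA2⟩ := exists_transvGroup_hyperbolic (m := n + 1) (F := F) (u := e F n) (v := v₀ F n)
    (u' := u) (v' := v) form_e_v₀ huv
  have hAe : A • e F n = u := hA1
  have hAv : A • v₀ F n = v := hA2
  have hAu' : A⁻¹ • u = e F n := by rw [inv_smul_eq_iff, hAe]
  have hAv' : A⁻¹ • v = v₀ F n := by rw [inv_smul_eq_iff, hAv]
  have hAK : ∀ x : Matrix.symplecticGroup (Fin n) F, A * emb x * A⁻¹ ∈ K := by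
    intro x
    constructor
    · change (A * emb x * A⁻¹) • u = u
      rw [mul_smul, mul_smul, hAu', emb_smul_e, hAe]
    · change (A * emb x * A⁻¹) • v = v
      rw [mul_smul, mul_smul, hAv', emb_smul_v₀, hAv]
  let φ : Matrix.symplecticGroup (Fin n) F →* K :=
    ((MulAut.conj A).toMonoidHom.comp (emb : Matrix.symplecticGroup (Fin n) F →*
      Matrix.symplecticGroup (Fin (n + 1)) F)).codRestrict K hAK
  have hφ : Function.Surjective φ := by
    rintro ⟨k, hk⟩
    obtain ⟨x, hx⟩ := exists_emb (g := A⁻¹ * k * A) (by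
      rw [mul_smul, mul_smul, hAe, show k • u = u from hk.1, hAu']) (by
      rw [mul_smul, mul_smul, hAv, show k • v = v from hk.2, hAv'])
    refine ⟨x, Subtype.ext ?_⟩
    change A * emb x * A⁻¹ = k
    rw [← hx]
    group
  obtain ⟨x, hx⟩ : ∃ x : Fin n ⊕ Fin n → F, x ≠ 0 := ⟨Pi.single (Sum.inl ⟨0, by omega⟩) 1, by
    intro h
    have := congrFun h (Sum.inl ⟨0, by omega⟩)
    simp at this⟩
  have hx' : A • (ext x : Fin (n + 1) ⊕ Fin (n + 1) → F) ≠ 0 :=
    smul_ne_zero' A fun h => hx (ext_injective (by rw [h, ext_zero]))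
  have hz : A * emb (transv x 1) * A⁻¹ = transv (A • (ext x : Fin (n + 1) ⊕ Fin (n + 1) → F)) 1 := by
    have h1 : (emb (transv x 1) : Matrix.symplecticGroup (Fin (n + 1)) F) = transv (ext x) 1 := by
      apply Cfsg.Agent.ClassicalGeometry.SympSiegel.ext_smul
      intro v
      rw [emb_smul, transv_smul, transv_smul, add_sub_cancel_left, Cfsg.Agent.H62.SpEmb.ext_smul, form_ext_right]
    rw [h1, conj_transv]
  refine good_step (M := M) (Q := Q) (Y := Subgroup.zpowers y) (K := K) Nat.prime_two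
    (QuotientGroup.mk' (Subgroup.center (Matrix.symplecticGroup (Fin (n + 1)) F)))
    (QuotientGroup.mk'_surjective _) hM hQM hMQ hQ ?_ ?_ ?_ hKY hCK (hgood.of_surjective φ hφ) (hAK (transv x 1)) ?_ ?_
  · rw [Subgroup.zpowers_le]
    exact hyM
  · rw [Nat.card_zpowers, hy3]
    norm_num
  · intro g hg x hx
    obtain ⟨q, hq, x', hx', h1⟩ := hMY g hg x hx
    rw [h1]
    exact mul_mem (Subgroup.mem_sup_left hq) (Subgroup.mem_sup_right hx')
  · rw [hz]
    exact not_dvd_transv Nat.prime_two (by omega) hx' 1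
  · rw [hz]
    intro h2
    exact transv_not_center hx' one_ne_zero ((QuotientGroup.eq_one_iff _).1 h2)

end Cfsg.Agent.H969.SpTwo
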