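import Mathlib
import Cfsg.Agent.H969.SpTwo
import Cfsg.Agent.H969.SpThree
import Cfsg.Agent.H969.SpGood
import Cfsg.Agent.H408.Out
import Cfsg.Agent.H408.BaseSp
import Cfsg.Agent.LieClassical.SympCount
import Cfsg.Agent.LieClassical.FieldTransfer
import Cfsg.Agent.S0270

/-!
# The row `PSp_{2m}(q)` of S3608, index a power of the characteristic (helper969)

* `psp_four_three` : a proper subgroup of `PSp_4(3)` of index `3 ^ k` has `k = 3`;
* `good_psp_all` : `Good p (PSp m F)` for `m ≥ 2`, `(m, |F|) ∉ {(2, 2), (2, 3)}`;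
* `idx` : `Idx (PSp m F) p` for `m ≥ 2`, `(m, |F|) ≠ (2, 2)`, `p` the characteristic.
-/

set_option autoImplicit false
open Cfsg
open Cfsg.Agent.ClassicalGeometry.SympBasic Cfsg.Agent.ClassicalGeometry.SympSiegel
open Cfsg.Agent.H408.Core Cfsg.Agent.H408.Idx8 Cfsg.Agent.H62.SpEmb Cfsg.Agent.H969.SpStep
open Cfsg.Agent.H969.SpBase Cfsg.Agent.H969.SpFour Cfsg.Agent.H969.SpGood Cfsg.Agent.H969.SpTwo
open Cfsg.Agent.H969.SpThree

namespace Cfsg.Agent.H969.SpIdx

/-- a subgroup of `p`-power index of a simple group containing a `p`-central element is everything -/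
theorem eq_top_of_mem {X X' : Type*} [Group X] [Finite X] [Group X'] [IsSimpleGroup X'] {p : ℕ} (hp : p.Prime)
    (φ : X →* X') (hφ : Function.Surjective φ) {H' : Subgroup X'} {k : ℕ} (hH' : H'.index = p ^ k) {z : X}
    (hz : ¬ p ∣ (Subgroup.centralizer ({z} : Set X)).index) (hzH : z ∈ H'.comap φ) (hφz : φ z ≠ 1) : H' = ⊤ := by
  have hH : (H'.comap φ).index = p ^ k := by rw [← hH']; exact Subgroup.index_comap_of_surjective _ hφ
  have h1 := normalClosure_le hp hH hz hzH
  have h2 : (Subgroup.normalClosure ({z} : Set X)).map φ = ⊤ := by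
    have hn : ((Subgroup.normalClosure ({z} : Set X)).map φ).Normal := Subgroup.normalClosure_normal.map φ hφ
    rcases (inferInstance : IsSimpleGroup X').eq_bot_or_eq_top_of_normal _ hn with h | h
    · exfalso
      apply hφz
      have h3 : φ z ∈ (Subgroup.normalClosure ({z} : Set X)).map φ := ⟨z, Subgroup.subset_normalClosure rfl, rfl⟩
      rw [h] at h3
      exact h3
    · exact h
  rw [eq_top_iff, ← h2]
  rintro _ ⟨y, hy, rfl⟩
  exact h1 hy

theorem index_of_free {F : Type*} [Field F] [Fintype F] (hF : Fintype.card F = 3) [CharP F 3]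
    {K : Subgroup (Matrix.symplecticGroup (Fin 2) F)} {k : ℕ} (hK : K.index = 3 ^ k)
    (hQ : ∀ x ∈ Q (e F 1), x ∈ K → x = 1) : k = 3 := by
  classical
  have hel : ∀ a : F, a = 0 ∨ a = 1 ∨ a = -1 := by
    intro a
    have h1 := FiniteField.pow_card a
    rw [hF] at h1
    have h2 : a * ((a - 1) * (a + 1)) = 0 := by linear_combination h1
    rcases mul_eq_zero.1 h2 with h | h
    · exact Or.inl h
    · rcases mul_eq_zero.1 h with h | h
      · exact Or.inr (Or.inl (sub_eq_zero.1 h))
      · exact Or.inr (Or.inr (eq_neg_of_add_eq_zero_left h))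
  -- `27` divides the index
  have h27 : 3 ^ 3 ≤ 3 ^ k := by
    have hcop : K.index.Coprime (Ml (e F 1)).index := by
      rw [hK]
      exact Nat.Coprime.pow_left _ ((Nat.Prime.coprime_iff_not_dvd Nat.prime_three).2
          (Ml_index Nat.prime_three (by omega) e_ne))
    have h1 : K.relIndex (Q (e F 1)) ∣ 3 ^ k := by
      have h2 := relIndex_dvd_of_le_normalizer K (Q_le_Ml (e F 1)) (Ml_le_normalizer e_ne)
      rwa [relIndex_eq hcop, hK] at h2
    have h2 : K.relIndex (Q (e F 1)) = Nat.card (Q (e F 1)) := by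
      rw [← Subgroup.relIndex_bot_left, ← Subgroup.inf_relIndex_right]
      congr 1
      rw [eq_bot_iff]
      rintro x ⟨h3, h4⟩
      exact hQ x h4 h3
    have h3 := card_Q_ge (F := F) (n := 1)
    rw [Nat.card_fun, Nat.card_eq_fintype_card (α := Fin 1 ⊕ Fin 1), Nat.card_eq_fintype_card (α := F), hF] at h3
    rw [h2] at h1
    have h4 := Nat.le_of_dvd (by positivity) h1
    simp only [Fintype.card_sum, Fintype.card_fin] at h3
    omega
  have hk3 : 3 ≤ k := (Nat.pow_le_pow_iff_right (by norm_num)).1 h27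
  -- the order
  have hcard : Nat.card (Matrix.symplecticGroup (Fin 2) F) = 3 ^ 4 * 640 := by
    rw [Cfsg.Agent.LieClassical.SympCount.card_symplecticGroup, hF]
    simp [Finset.prod_range_succ]
  have h1 := K.card_mul_index
  rw [hK, hcard] at h1
  have hk4 : k ≤ 4 := by
    by_contra h
    have h2 : 3 ^ 5 ∣ 3 ^ 4 * 640 := by
      rw [← h1]
      exact (pow_dvd_pow 3 (by omega : 5 ≤ k)).trans (dvd_mul_left _ _)
    norm_num at h2
  by_contra hk
  have hk' : k = 4 := by omega
  subst hk'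
  have h2 : Nat.card K = 640 := by
    apply Nat.eq_of_mul_eq_mul_right (m := 3 ^ 4) (by norm_num)
    rw [h1, mul_comm]
  exact not_hall hel hK (by rw [h2]; norm_num)

theorem charP_of_card {F : Type*} [Field F] [Fintype F] {p : ℕ} (hp : p.Prime) (hF : Fintype.card F = p) :
    CharP F p := by
  obtain ⟨q, hq⟩ := CharP.exists F
  obtain ⟨n, hq2, hn⟩ := FiniteField.card F q
  have h1 : q ∣ p := by rw [← hF, hn]; exact dvd_pow_self q n.ne_zero
  have h2 := (Nat.prime_dvd_prime_iff_eq hq2 hp).1 h1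
  subst h2
  exact hq

/-- **a proper subgroup of `PSp_4(3)` of index a power of `3` has index `27`** -/
theorem psp_four_three {F : Type*} [Field F] [Fintype F] (hF : Fintype.card F = 3) {H : Subgroup (PSp 2 F)} {k : ℕ}
    (hH : H.index = 3 ^ k) (hne : H ≠ ⊤) : k = 3 := by
  classical
  have hs : IsSimpleGroup (PSp 2 F) := Cfsg.Agent.S0270.result 2 le_rfl (fun _ => by omega)
  have hch : CharP F 3 := charP_of_card Nat.prime_three hF
  have hφ : Function.Surjective (QuotientGroup.mk' (Subgroup.center (Matrix.symplecticGroup (Fin 2) F))) :=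
    QuotientGroup.mk'_surjective _
  obtain ⟨K, hK⟩ : ∃ K, K = H.comap (QuotientGroup.mk' (Subgroup.center (Matrix.symplecticGroup (Fin 2) F))) :=
    ⟨_, rfl⟩
  have hH' : K.index = 3 ^ k := by rw [← hH, hK]; exact Subgroup.index_comap_of_surjective _ hφ
  refine index_of_free hF hH' ?_
  intro x hx hxH
  by_contra hx1
  obtain ⟨c, hc, hcH⟩ := transv_of_Q (n := 1) Nat.prime_three h2F hH' hx hxH hx1
  rw [hK] at hcH
  refine hne (eq_top_of_mem Nat.prime_three _ hφ hH
    (not_dvd_transv Nat.prime_three (by omega) (e_ne (F := F) (n := 1)) c) hcH ?_)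
  intro h
  exact transv_not_center e_ne hc ((QuotientGroup.eq_one_iff _).1 h)

/-- `PSp_4(3)` : the exceptional row -/
theorem idx_four_three {F : Type} [Field F] [Fintype F] (hF : Fintype.card F = 3) : Idx (PSp 2 F) 3 := by
  intro H k hk hH
  have hk3 : k = 3 := psp_four_three hF hH (by
    rintro rfl
    rw [Subgroup.index_top] at hH
    have := Nat.one_lt_pow (by omega : k ≠ 0) (by norm_num : 1 < 3)
    omega)
  subst hk3
  have e0 : ZMod 3 ≃+* F := ZMod.ringEquivOfPrime F Nat.prime_three hF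
  exact Or.inr (Or.inr (Or.inr (Or.inr ⟨by norm_num,
    ⟨(Cfsg.Agent.LieClassical.FieldTransfer.pspCongr 2 e0).symm⟩⟩)))

/-- `PSp_{2m}(2)`, `m ≥ 3`, from `PSp_6(2)` -/
theorem good_two {F : Type*} [Field F] [Finite F] [CharP F 2] (hF : Nat.card F = 2) (h : Good 2 (PSp 3 F)) (j : ℕ) :
    Good 2 (PSp (3 + j) F) := by
  induction j with
  | zero => exact h
  | succ j ih =>
    have h1 : 1 ≤ 3 + j := by omega
    have h2 : 2 ≤ 3 + j := by omega
    exact good_succ_two hF h2 (good_sp_of_psp Nat.prime_two h1 ih)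

variable (T : Cfsg.Agent.OrdDiv.OrderTable.{0}) (hS : ∀ (X : Type) [Group X] [Finite X] [IsSimpleGroup X], IsKnownSimple' X)
  {F : Type} [Field F] [Fintype F]

include T hS

/-- **all `PSp_{2m}(q)` except `PSp_4(2)` and `PSp_4(3)`** -/
theorem good_psp_all {p : ℕ} (hp : p.Prime) [CharP F p] {m : ℕ} (hm : 2 ≤ m)
    (h4 : m = 2 → 4 ≤ Fintype.card F) : Good p (PSp m F) := by
  obtain ⟨n, -, hn⟩ := FiniteField.card F p
  have hpF : p ∣ Fintype.card F := by rw [hn]; exact dvd_pow_self p n.ne_zero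
  by_cases h2 : Fintype.card F = 2
  · have hp2 : p = 2 := (Nat.prime_dvd_prime_iff_eq hp Nat.prime_two).1 (h2 ▸ hpF)
    subst hp2
    obtain ⟨j, rfl⟩ : ∃ j, m = 3 + j := ⟨m - 3, by
      have : m ≠ 2 := fun h => by have := h4 h; omega
      omega⟩
    exact good_two (by rw [Nat.card_eq_fintype_card, h2]) (Cfsg.Agent.H408.BaseSp.sp62 T hS h2) j
  by_cases h3 : Fintype.card F = 3
  · have hp3 : p = 3 := (Nat.prime_dvd_prime_iff_eq hp Nat.prime_three).1 (h3 ▸ hpF)
    subst hp3
    have : m ≠ 2 := fun h => by have := h4 h; omega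
    exact good_all' Nat.prime_three (by rw [Nat.card_eq_fintype_card, h3]) (by norm_num)
      (Cfsg.Agent.H408.BaseSp.sp63 T hS h3) (by omega)
  by_cases h5 : Fintype.card F = 5
  · have hp5 : p = 5 := (Nat.prime_dvd_prime_iff_eq hp Nat.prime_five).1 (h5 ▸ hpF)
    subst hp5
    exact good_all' Nat.prime_five (by rw [Nat.card_eq_fintype_card, h5]; norm_num) (by norm_num)
      (Cfsg.Agent.H408.BaseSp.sp45 T hS h5) hm
  · exact good_psp hp hm (by rwa [Nat.card_eq_fintype_card]) (by rwa [Nat.card_eq_fintype_card])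
      (by rwa [Nat.card_eq_fintype_card])

/-- **the row `PSp`, index a power of the characteristic** -/
theorem idx {p : ℕ} (hp : p.Prime) [CharP F p] {m : ℕ} (hm : 2 ≤ m) (h3 : m = 2 → 3 ≤ Fintype.card F) :
    Idx (PSp m F) p := by
  by_cases h : m = 2 ∧ Fintype.card F = 3
  · obtain ⟨rfl, h5⟩ := h
    obtain ⟨n, -, hn⟩ := FiniteField.card F p
    have hpF : p ∣ Fintype.card F := by rw [hn]; exact dvd_pow_self p n.ne_zero
    have hp3 : p = 3 := (Nat.prime_dvd_prime_iff_eq hp Nat.prime_three).1 (h5 ▸ hpF)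
    subst hp3
    exact idx_four_three h5
  · exact Idx.of_good hp (good_psp_all T hS hp hm (fun h2 => by
      have := h3 h2
      have : Fintype.card F ≠ 3 := fun h4 => h ⟨h2, h4⟩
      omega))

end Cfsg.Agent.H969.SpIdx
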